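import Groth.Agent.H16Derived.RelTensor.Approx
import Groth.Agent.H16Derived.TorTest.StalkAmp
import Groth.Agent.H16Derived.KFlat.TorAmp
import Groth.Agent.H16Derived.KFlat.SheafAssoc

/-!
# `Lg^*(- ⊗^L G) ⟶ Lg^*(-) ⊗^L g^*G`
-/

set_option autoImplicit false
set_option linter.style.haveILetI false
set_option backward.isDefEq.respectTransparency false

universe u

open CategoryTheory CategoryTheory.Limits AlgebraicGeometry CategoryTheory.Functor

attribute [local instance] HasDerivedCategory.standard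

noncomputable section

namespace Groth.Agent.H16Derived.RelTensor

open Groth.Agent.H16Derived.KFlat Groth.Agent.H16Derived.KFlat.Stalk Groth.Agent.H16Derived.BaseChange

theorem square_hom {C D E : Type*} [Category C] [Category D] [Category E] {P : ObjectProperty C} {F : C ⥤ D}
    {F' : C ⥤ E} {L : D ⥤ E} (e : (P.ι ⋙ F) ⋙ L ≅ P.ι ⋙ F') {A B : C} (hA : P A) (hB : P B) (φ : A ⟶ B) :
    L.map (F.map φ) ≫ e.hom.app ⟨B, hB⟩ = e.hom.app ⟨A, hA⟩ ≫ F'.map φ :=
  e.hom.naturality (X := ⟨A, hA⟩) (Y := ⟨B, hB⟩) (ObjectProperty.homMk φ)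

theorem square_inv {C D E : Type*} [Category C] [Category D] [Category E] {P : ObjectProperty C} {F : C ⥤ D}
    {F' : C ⥤ E} {L : D ⥤ E} (e : (P.ι ⋙ F) ⋙ L ≅ P.ι ⋙ F') {A B : C} (hA : P A) (hB : P B) (φ : A ⟶ B) :
    F'.map φ ≫ e.inv.app ⟨B, hB⟩ = e.inv.app ⟨A, hA⟩ ≫ L.map (F.map φ) :=
  e.inv.naturality (X := ⟨A, hA⟩) (Y := ⟨B, hB⟩) (ObjectProperty.homMk φ)

variable {X Y : Scheme.{u}} (g : X ⟶ Y) (G : Y.Modules)

/-- `g^*G`. -/
abbrev pullG : X.Modules := (Scheme.Modules.pullback g).obj G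

/-- `- ⊗ G` on complexes. -/
abbrev tG (G : Y.Modules) : CochainComplex Y.Modules ℤ ⥤ CochainComplex Y.Modules ℤ :=
  (DCoh.tensorRightMod G).mapHomologicalComplex (ComplexShape.up ℤ)

/-- `g^*` on complexes. -/
abbrev pullC : CochainComplex Y.Modules ℤ ⥤ CochainComplex X.Modules ℤ :=
  (Scheme.Modules.pullback g).mapHomologicalComplex (ComplexShape.up ℤ)

/-- `g^*(M ⊗ G) ≅ g^*M ⊗ g^*G`. -/
def pullTensorRightIso : DCoh.tensorRightMod G ⋙ Scheme.Modules.pullback g ≅
    Scheme.Modules.pullback g ⋙ DCoh.tensorRightMod (pullG g G) :=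
  Functor.isoWhiskerRight (tensorRightModIso G) _ ≪≫ pullTensorLIso g G ≪≫
    Functor.isoWhiskerLeft _ (tensorRightModIso (pullG g G)).symm

/-- The same on complexes. -/
def pullTensorCxIso : tG G ⋙ pullC g ≅ pullC g ⋙ tG (pullG g G) :=
  NatIso.ofComponents (fun P => HomologicalComplex.Hom.isoOfComponents
    (fun i => (pullTensorRightIso g G).app (P.X i))
    fun i j _ => ((pullTensorRightIso g G).hom.naturality (P.d i j)).symm)
    fun {_ _} φ => HomologicalComplex.hom_ext _ _ fun i => (pullTensorRightIso g G).hom.naturality (φ.f i)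

/-- K-flat complexes pull back to left K-flat complexes. -/
theorem lkflat_pullC (P : (kflat Y).FullSubcategory) : lkflat X ((pullC g).obj P.obj) :=
  TorTest.lkflat_of_kflat (isKFlat_pullback g P.property)

variable [DCoh.HasLpull g] [DCoh.HasLTensorMod G] [DCoh.HasLTensorMod (pullG g G)]

/-- `Lg^*(P ⊗^L G) ≅ Lg^*(P ⊗ G)`. -/
def isoA (P : (kflat Y).FullSubcategory) :
    (DCoh.Lpull g).obj ((DCoh.LTensorMod G).obj (DerivedCategory.Q.obj P.obj)) ≅
      (DCoh.Lpull g).obj (DerivedCategory.Q.obj ((tG G).obj P.obj)) :=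
  (DCoh.Lpull g).mapIso (ltensorModObjIso G P.obj (TorTest.lkflat_of_kflat P.property))

/-- `g^*(P ⊗ G) ≅ Lg^*P ⊗^L g^*G`. -/
def isoC (P : (kflat Y).FullSubcategory) :
    DerivedCategory.Q.obj ((pullC g).obj ((tG G).obj P.obj)) ≅
      (DCoh.LTensorMod (pullG g G)).obj ((DCoh.Lpull g).obj (DerivedCategory.Q.obj P.obj)) :=
  DerivedCategory.Q.mapIso ((pullTensorCxIso g G).app P.obj) ≪≫
    (ltensorModObjIso (pullG g G) ((pullC g).obj P.obj) (lkflat_pullC g P)).symm ≪≫
    (DCoh.LTensorMod (pullG g G)).mapIso (lpullObjIso g P.obj P.property).symm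

omit [DCoh.HasLTensorMod (pullG g G)] in
theorem isoA_naturality {P P' : (kflat Y).FullSubcategory} (φ : P ⟶ P') :
    (DCoh.Lpull g).map ((DCoh.LTensorMod G).map (DerivedCategory.Q.map φ.hom)) ≫ (isoA g G P').hom =
      (isoA g G P).hom ≫ (DCoh.Lpull g).map (DerivedCategory.Q.map ((tG G).map φ.hom)) := by
  have h := square_hom (F := DerivedCategory.Q) (F' := tG G ⋙ DerivedCategory.Q) (ltensorModIso G)
    (TorTest.lkflat_of_kflat P.property) (TorTest.lkflat_of_kflat P'.property) φ.hom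
  refine ((DCoh.Lpull g).map_comp _ _).symm.trans (Eq.trans ?_ ((DCoh.Lpull g).map_comp _ _))
  exact congrArg (DCoh.Lpull g).map h

omit [DCoh.HasLTensorMod G] in
theorem isoC_naturality {P P' : (kflat Y).FullSubcategory} (φ : P ⟶ P') :
    DerivedCategory.Q.map ((pullC g).map ((tG G).map φ.hom)) ≫ (isoC g G P').hom =
      (isoC g G P).hom ≫ (DCoh.LTensorMod (pullG g G)).map ((DCoh.Lpull g).map (DerivedCategory.Q.map φ.hom)) := by
  have h1 : DerivedCategory.Q.map ((pullC g).map ((tG G).map φ.hom)) ≫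
      DerivedCategory.Q.map ((pullTensorCxIso g G).hom.app P'.obj) =
      DerivedCategory.Q.map ((pullTensorCxIso g G).hom.app P.obj) ≫
        DerivedCategory.Q.map ((tG (pullG g G)).map ((pullC g).map φ.hom)) :=
    (DerivedCategory.Q.map_comp _ _).symm.trans ((congrArg DerivedCategory.Q.map
      ((pullTensorCxIso g G).hom.naturality φ.hom)).trans (DerivedCategory.Q.map_comp _ _))
  have h2 := square_inv (F := DerivedCategory.Q) (F' := tG (pullG g G) ⋙ DerivedCategory.Q)
    (ltensorModIso (pullG g G)) (lkflat_pullC g P) (lkflat_pullC g P') ((pullC g).map φ.hom)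
  have h3 : (DCoh.LTensorMod (pullG g G)).map (DerivedCategory.Q.map ((pullC g).map φ.hom)) ≫
      (DCoh.LTensorMod (pullG g G)).map ((lpullObjIso g P'.obj P'.property).inv) =
      (DCoh.LTensorMod (pullG g G)).map ((lpullObjIso g P.obj P.property).inv) ≫
        (DCoh.LTensorMod (pullG g G)).map ((DCoh.Lpull g).map (DerivedCategory.Q.map φ.hom)) :=
    ((DCoh.LTensorMod (pullG g G)).map_comp _ _).symm.trans ((congrArg (DCoh.LTensorMod (pullG g G)).map
      (square_inv (F := DerivedCategory.Q) (F' := pullC g ⋙ DerivedCategory.Q) (lpullIso g) P.property P'.property φ.hom)).trans ((DCoh.LTensorMod (pullG g G)).map_comp _ _))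
  refine ((Category.assoc _ _ _).symm.trans ((congrArg (· ≫ _) h1).trans (Category.assoc _ _ _))).trans ?_
  refine (congrArg (_ ≫ ·) ((Category.assoc _ _ _).symm.trans ((congrArg (· ≫ _) h2).trans
    (Category.assoc _ _ _)))).trans ?_
  refine (congrArg (fun z => _ ≫ _ ≫ z) h3).trans ?_
  exact (congrArg (_ ≫ ·) (Category.assoc _ _ _).symm).trans (Category.assoc _ _ _).symm

/-- The transformation on K-flat complexes. -/
def eK : ((kflat Y).ι ⋙ DerivedCategory.Q) ⋙ DCoh.LTensorMod G ⋙ DCoh.Lpull g ⟶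
    ((kflat Y).ι ⋙ DerivedCategory.Q) ⋙ DCoh.Lpull g ⋙ DCoh.LTensorMod (pullG g G) where
  app P := (isoA g G P).hom ≫ (κ g).app ((tG G).obj P.obj) ≫ (isoC g G P).hom
  naturality P P' φ := by
    have hk := (κ g).naturality ((tG G).map φ.hom)
    show (DCoh.Lpull g).map ((DCoh.LTensorMod G).map (DerivedCategory.Q.map φ.hom)) ≫ _ = _ ≫
      (DCoh.LTensorMod (pullG g G)).map ((DCoh.Lpull g).map (DerivedCategory.Q.map φ.hom))
    refine ((Category.assoc _ _ _).symm.trans ((congrArg (· ≫ _) (isoA_naturality g G φ)).trans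
      (Category.assoc _ _ _))).trans ?_
    refine (congrArg (_ ≫ ·) ((Category.assoc _ _ _).symm.trans ((congrArg (· ≫ _) hk).trans
      (Category.assoc _ _ _)))).trans ?_
    refine (congrArg (fun z => _ ≫ _ ≫ z) (isoC_naturality g G φ)).trans ?_
    exact (congrArg (_ ≫ ·) (Category.assoc _ _ _).symm).trans (Category.assoc _ _ _).symm

theorem eK_app (P : (kflat Y).FullSubcategory) :
    ∃ (a : (DCoh.Lpull g).obj ((DCoh.LTensorMod G).obj (DerivedCategory.Q.obj P.obj)) ≅
        (DCoh.Lpull g).obj (DerivedCategory.Q.obj ((tG G).obj P.obj)))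
      (c : DerivedCategory.Q.obj ((pullC g).obj ((tG G).obj P.obj)) ≅
        (DCoh.LTensorMod (pullG g G)).obj ((DCoh.Lpull g).obj (DerivedCategory.Q.obj P.obj))),
      (eK g G).app P = a.hom ≫ (κ g).app ((tG G).obj P.obj) ≫ c.hom :=
  ⟨isoA g G P, isoC g G P, rfl⟩

variable (Y) in
/-- Resolutions by K-flat complexes. -/
abbrev resK : CochainComplex Y.Modules ℤ ⥤ (kflat Y).FullSubcategory := (kflat Y).lift res isKFlat_res

variable (Y) in
/-- A K-flat resolution does not change the object of the derived category. -/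
def eres : res (X := Y) ⋙ DerivedCategory.Q ≅ DerivedCategory.Q :=
  haveI : ∀ P, IsIso ((Functor.whiskerRight (resψ (X := Y)) DerivedCategory.Q).app P) := fun P =>
    KFlat.Stalk.isIso_Q_map _ (quasiIso_resψ P)
  haveI := NatIso.isIso_of_isIso_app (Functor.whiskerRight (resψ (X := Y)) DerivedCategory.Q)
  asIso (Functor.whiskerRight (resψ (X := Y)) DerivedCategory.Q) ≪≫ DerivedCategory.Q.leftUnitor

/-- The transformation on all complexes. -/
def eQ : DerivedCategory.Q ⋙ DCoh.LTensorMod G ⋙ DCoh.Lpull g ⟶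
    DerivedCategory.Q ⋙ DCoh.Lpull g ⋙ DCoh.LTensorMod (pullG g G) :=
  (isoWhiskerRight (eres Y) (DCoh.LTensorMod G ⋙ DCoh.Lpull g)).inv ≫ whiskerLeft (resK Y) (eK g G) ≫
    (isoWhiskerRight (eres Y) (DCoh.Lpull g ⋙ DCoh.LTensorMod (pullG g G))).hom

/-- `Lg^*(- ⊗^L G) ⟶ Lg^*(-) ⊗^L g^*G`. -/
def μ : DCoh.LTensorMod G ⋙ DCoh.Lpull g ⟶ DCoh.Lpull g ⋙ DCoh.LTensorMod (pullG g G) :=
  Localization.liftNatTrans DerivedCategory.Q (HomologicalComplex.quasiIso Y.Modules (ComplexShape.up ℤ))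
    (DerivedCategory.Q ⋙ DCoh.LTensorMod G ⋙ DCoh.Lpull g)
    (DerivedCategory.Q ⋙ DCoh.Lpull g ⋙ DCoh.LTensorMod (pullG g G)) _ _ (eQ g G)

theorem μ_app (P : CochainComplex Y.Modules ℤ) : (μ g G).app (DerivedCategory.Q.obj P) = (eQ g G).app P := by
  rw [μ, Localization.liftNatTrans_app]
  exact (Category.id_comp _).trans (Category.comp_id _)

/-- On a K-flat complex `μ` is computed termwise. -/
theorem μ_app_kflat (P : CochainComplex Y.Modules ℤ) (hP : kflat Y P) :
    (μ g G).app (DerivedCategory.Q.obj P) = (eK g G).app ⟨P, hP⟩ := by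
  rw [μ_app]
  have hn := (eK g G).naturality (X := (resK Y).obj P) (Y := ⟨P, hP⟩) (ObjectProperty.homMk ((resψ (X := Y)).app P))
  let q : DerivedCategory.Q.obj ((res (X := Y)).obj P) ⟶ DerivedCategory.Q.obj P := (eres Y).hom.app P
  have hq : q = DerivedCategory.Q.map ((resψ (X := Y)).app P) := by
    show _ ≫ 𝟙 _ = _
    exact Category.comp_id _
  haveI : IsIso q := inferInstanceAs (IsIso ((eres Y).hom.app P))
  show (DCoh.Lpull g).map ((DCoh.LTensorMod G).map ((eres Y).inv.app P)) ≫ (eK g G).app ((resK Y).obj P) ≫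
    (DCoh.LTensorMod (pullG g G)).map ((DCoh.Lpull g).map q) = _
  have hn' : (DCoh.Lpull g).map ((DCoh.LTensorMod G).map q) ≫ (eK g G).app ⟨P, hP⟩ =
      (eK g G).app ((resK Y).obj P) ≫ (DCoh.LTensorMod (pullG g G)).map ((DCoh.Lpull g).map q) := by
    rw [hq]
    exact hn
  rw [← hn', ← Category.assoc, ← Functor.map_comp, ← Functor.map_comp]
  rw [show (eres Y).inv.app P ≫ q = 𝟙 _ from (eres Y).inv_hom_id_app P]
  simp

/-- `μ` is invertible above the top degree of a bounded above flat complex. -/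
theorem approx_μ (P : CochainComplex Y.Modules ℤ) (b : ℤ) [P.IsStrictlyLE b]
    (hP : ∀ q, FlatMod.IsFlat (P.X q)) : Approx b ((μ g G).app (DerivedCategory.Q.obj P)) := by
  have hk : kflat Y P := kflat_of_boundedAbove P b (fun q hq => P.isZero_of_isStrictlyLE b q hq) hP
  obtain ⟨a, c, h⟩ := eK_app g G ⟨P, hk⟩
  rw [μ_app_kflat g G P hk, h]
  haveI : CochainComplex.IsStrictlyLE ((tG G).obj P) b :=
    (CochainComplex.isStrictlyLE_iff _ _).2 fun i hi =>
      (DCoh.tensorRightMod G).map_isZero (P.isZero_of_isStrictlyLE b i hi)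
  exact ((approx_κ g ((tG G).obj P) b).comp_iso c).iso_comp a

theorem isIso_κ_openImmersion [IsOpenImmersion g] (W : CochainComplex Y.Modules ℤ) : IsIso ((κ g).app W) := by
  haveI : PreservesFiniteLimits (Scheme.Modules.pullback g) :=
    preservesFiniteLimits_of_natIso (Scheme.Modules.restrictFunctorIsoPullback g)
  haveI : PreservesFiniteColimits (Scheme.Modules.pullback g) :=
    preservesFiniteColimits_of_natIso (Scheme.Modules.restrictFunctorIsoPullback g)
  haveI := quasiIso_resψ W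
  haveI := isIso_Q_map ((resψ (X := Y)).app W) (quasiIso_resψ W)
  haveI := isIso_κ g _ (isKFlat_res W)
  haveI : IsIso (DerivedCategory.Q.map ((pullC g).map ((resψ (X := Y)).app W))) :=
    isIso_Q_map _ inferInstance
  have hn := (κ g).naturality ((resψ (X := Y)).app W)
  simp only [Functor.comp_map] at hn
  rw [show (κ g).app W = inv ((DCoh.Lpull g).map (DerivedCategory.Q.map ((resψ (X := Y)).app W))) ≫
    (κ g).app ((res (X := Y)).obj W) ≫ DerivedCategory.Q.map ((pullC g).map ((resψ (X := Y)).app W)) from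
      (IsIso.eq_inv_comp _).2 hn]
  infer_instance

/-- Restriction commutes with the derived tensor product. -/
theorem isIso_μ_openImmersion [IsOpenImmersion g] (E : DCoh.D Y) : IsIso ((μ g G).app E) := by
  let C := DerivedCategory.Q.objPreimage E
  have h : IsIso ((μ g G).app (DerivedCategory.Q.obj ((res (X := Y)).obj C))) := by
    obtain ⟨a, c, h⟩ := eK_app g G ⟨_, isKFlat_res C⟩
    rw [μ_app_kflat g G _ (isKFlat_res C), h]
    haveI := isIso_κ_openImmersion g ((tG G).obj ((res (X := Y)).obj C))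
    infer_instance
  exact (NatTrans.isIso_app_iff_of_iso (μ g G)
    ((eres Y).app C ≪≫ DerivedCategory.Q.objObjPreimageIso E)).1 h

end Groth.Agent.H16Derived.RelTensor
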