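import Groth.Agent.H16Derived.RelTensor.Core
import Groth.Agent.H16Derived.RelTensor.Mu
import Groth.Agent.H16Derived.ProperSupp.Tensor
import Groth.Agent.H16Derived.ProjFormula.DQc
import Groth.Agent.H16Derived.TorTest.RpushAmp
import Groth.Agent.H29Fitt.PullbackQCoh
import Groth.Agent.H8Props.FlatLocus.Sections
import Groth.Agent.H06EGA9.FlatLocallyConstructible
import Groth.Agent.H17.OmegaBij
import Groth.Agent.LeadBrown.PerfTensor
import Groth.Agent.H10Coh.TensorBasics

/-!
# Local facts about the derived tensor product with a module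
-/

set_option autoImplicit false
set_option linter.style.haveILetI false
set_option backward.isDefEq.respectTransparency false

universe u

open CategoryTheory CategoryTheory.Limits AlgebraicGeometry

attribute [local instance] HasDerivedCategory.standard

noncomputable section

namespace Groth.Agent.H16Derived.RelTensor

open Groth.Agent.H16Derived.KFlat Groth.Agent.H16Derived.KFlat.Stalk Groth.Agent.H16Derived.BaseChange

variable {X Y : Scheme.{u}}

/-- Pullback along an open immersion is restriction. -/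
def lpullRdIso (j : Y ⟶ X) [IsOpenImmersion j] [DCoh.HasLpull j] [DCoh.HasRpush j] : DCoh.Lpull j ≅ rd j :=
  (lpullRpushAdj j).leftAdjointUniq (Thomason.restrictRpushAdj j)

theorem Approx.lpull {b : ℤ} {M N : DCoh.D X} {ν : M ⟶ N} (h : Approx b ν) (j : Y ⟶ X) [IsOpenImmersion j]
    [DCoh.HasLpull j] : Approx b ((DCoh.Lpull j).map ν) := by
  haveI := QCohD.hasRpush j
  refine (h.map (Scheme.Modules.restrictFunctor j)).arrow ((lpullRdIso j).app M) ((lpullRdIso j).app N) ?_
  exact (lpullRdIso j).hom.naturality ν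

/-- The derived tensor product is compatible with restriction. -/
theorem nonempty_lpull_ltensor (j : Y ⟶ X) [IsOpenImmersion j] [DCoh.HasLpull j] (G : X.Modules)
    [DCoh.HasLTensorMod G] [DCoh.HasLTensorMod (pullG j G)] (E : DCoh.D X) :
    Nonempty ((DCoh.Lpull j).obj ((DCoh.LTensorMod G).obj E) ≅
      (DCoh.LTensorMod (pullG j G)).obj ((DCoh.Lpull j).obj E)) := by
  haveI := isIso_μ_openImmersion j G E
  exact ⟨asIso ((μ j G).app E)⟩

/-- Maps invertible on an open stay so after tensoring. -/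
theorem isIso_lpull_ltensor_map (j : Y ⟶ X) [IsOpenImmersion j] [DCoh.HasLpull j] (G : X.Modules)
    [DCoh.HasLTensorMod G] [DCoh.HasLTensorMod (pullG j G)] {E E' : DCoh.D X} (e : E ⟶ E')
    [IsIso ((DCoh.Lpull j).map e)] : IsIso ((DCoh.Lpull j).map ((DCoh.LTensorMod G).map e)) := by
  haveI := isIso_μ_openImmersion j G E
  haveI := isIso_μ_openImmersion j G E'
  have h := (μ j G).naturality e
  simp only [Functor.comp_map] at h
  rw [show (DCoh.Lpull j).map ((DCoh.LTensorMod G).map e) =
    (μ j G).app E ≫ (DCoh.LTensorMod (pullG j G)).map ((DCoh.Lpull j).map e) ≫ inv ((μ j G).app E') by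
      rw [← Category.assoc, IsIso.eq_comp_inv]; exact h]
  infer_instance

theorem isQCohD_ltensorMod {G : X.Modules} (hG : Coh.IsQCoh G) [DCoh.HasLTensorMod G] {E : DCoh.D X}
    (hE : DCoh.IsQCohD E) : DCoh.IsQCohD ((DCoh.LTensorMod G).obj E) := by
  obtain ⟨e⟩ := ProperSupp.nonempty_ltensorMod_iso E G
  exact QCohD.isQCohD_iso e.symm (LeadBrown.isQCohD_T hE (TorTest.isQCohD_inD hG))

/-- The unit is invertible on tensor products with direct images from quasi-compact opens. -/
theorem isIso_unit_ltensor_rpush (j : Y ⟶ X) [IsOpenImmersion j] [QuasiCompact j] [QuasiSeparated j]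
    [DCoh.HasLpull j] [DCoh.HasRpush j] {G : X.Modules} (hG : Coh.IsQCoh G) [DCoh.HasLTensorMod G]
    {K : DCoh.D Y} (hK : DCoh.IsQCohD K) :
    IsIso ((lpullRpushAdj j).unit.app ((DCoh.LTensorMod G).obj ((DCoh.Rpush j).obj K))) := by
  haveI := isGrothendieckAbelian_modules (X := Y)
  obtain ⟨N, q, hN⟩ := KInjRes.exists_resolution_functor (A := Y.Modules)
  let C := DerivedCategory.Q.objPreimage K
  let I := N.obj C
  haveI : I.IsKInjective := (hN C).2.2.1
  haveI : IsIso (DerivedCategory.Q.map (q.app C)) := KFlat.Stalk.isIso_Q_map _ (hN C).2.1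
  let eI : DerivedCategory.Q.obj I ≅ K :=
    (asIso (DerivedCategory.Q.map (q.app C))).symm ≪≫ DerivedCategory.Q.objObjPreimageIso _
  haveI := ProjFormula.isIso_η₀ j I
  have hF := TorTest.isQCohD_inD hG
  haveI := ProjFormula.isIso_θ_of_isQCohD j I (QCohD.isQCohD_iso eI.symm hK) (DCoh.inD X G) hF
  obtain ⟨e⟩ := ProperSupp.nonempty_ltensorMod_iso ((DCoh.Rpush j).obj K) G
  let e' : (DCoh.LTensorMod G).obj ((DCoh.Rpush j).obj K) ≅
      (DCoh.Rpush j).obj (((Dual.T Y).obj (DerivedCategory.Q.obj I)).obj ((DCoh.Lpull j).obj (DCoh.inD X G))) :=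
    e ≪≫ ((Dual.T X).mapIso ((DCoh.Rpush j).mapIso eI.symm ≪≫ (asIso ((ProjFormula.η₀ j).app I)).symm)).app _ ≪≫
      asIso ((ProjFormula.θ j I).app (DCoh.inD X G))
  haveI := isIso_counit_of_openImmersion j (lpullRpushAdj j)
  refine (NatTrans.isIso_app_iff_of_iso (lpullRpushAdj j).unit e').2 ?_
  let Z := ((Dual.T Y).obj (DerivedCategory.Q.obj I)).obj ((DCoh.Lpull j).obj (DCoh.inD X G))
  haveI : IsIso ((lpullRpushAdj j).unit.app ((DCoh.Rpush j).obj Z) ≫
      (DCoh.Rpush j).map ((lpullRpushAdj j).counit.app Z)) := by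
    rw [(lpullRpushAdj j).right_triangle_components]; exact inferInstanceAs (IsIso (𝟙 _))
  exact IsIso.of_isIso_comp_right _ ((DCoh.Rpush j).map ((lpullRpushAdj j).counit.app Z))

/-- The unit of the derived tensor product. -/
theorem nonempty_ltensor_one (G : X.Modules) [DCoh.HasLTensorMod G] (n : ℤ) :
    Nonempty ((DCoh.LTensorMod G).obj ((DCoh.inD X (Coh.structureModule X))⟦n⟧) ≅ (DCoh.inD X G)⟦n⟧) := by
  letI := ltensorModCommShift G
  let P := (CochainComplex.singleFunctor X.Modules 0).obj (Coh.structureModule X)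
  have hP : lkflat X P := TorTest.lkflat_of_kflat (kflat_of_boundedAbove P 0
    (fun q hq => HomologicalComplex.isZero_single_obj_X _ _ _ _ (by omega)) (fun q => by
      by_cases hq : q = 0
      · subst hq
        exact isFlat_of_retract (HomologicalComplex.singleObjXSelf (ComplexShape.up ℤ) 0 _).hom
          (HomologicalComplex.singleObjXSelf (ComplexShape.up ℤ) 0 _).inv (Iso.hom_inv_id _)
          (fun x => isFlat_structureModule x)
      · exact isFlat_of_isZero (HomologicalComplex.isZero_single_obj_X _ _ _ _ hq)))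
  let u : (DCoh.tensorRightMod G).obj (Coh.structureModule X) ≅ G :=
    H10Coh.Tw.commIso (Coh.structureModule X) G ≪≫ tensorUnitModIso.app G
  let e : (DCoh.LTensorMod G).obj (DCoh.inD X (Coh.structureModule X)) ≅ DCoh.inD X G :=
    (DCoh.LTensorMod G).mapIso ((DerivedCategory.singleFunctorIsoCompQ X.Modules 0).app _) ≪≫
      ltensorModObjIso G P hP ≪≫
      DerivedCategory.Q.mapIso (((HomologicalComplex.singleMapHomologicalComplex (DCoh.tensorRightMod G)
        (ComplexShape.up ℤ) 0).app _) ≪≫ (CochainComplex.singleFunctor X.Modules 0).mapIso u) ≪≫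
      ((DerivedCategory.singleFunctorIsoCompQ X.Modules 0).app G).symm
  exact ⟨((DCoh.LTensorMod G).commShiftIso n).app _ ≪≫ (shiftFunctor _ n).mapIso e⟩

section Affine

variable {A B : Type u} [CommRing A] [CommRing B]

/-- Shifts of a quasi-coherent module on an affine scheme. -/
theorem nonempty_Tn_iso (n : ℤ) {G : (Spec (CommRingCat.of B)).Modules} {N : ModuleCat.{u} B} (e : G ≅ (tf B).obj N) :
    Nonempty ((Tn B n).obj N ≅ (DCoh.inD (Spec (CommRingCat.of B)) G)⟦n⟧) :=
  ⟨(shiftFunctor _ n).mapIso ((T₀Iso B).app N ≪≫ (DerivedCategory.singleFunctor _ 0).mapIso e.symm)⟩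

theorem nonempty_Tn_one (B : Type u) [CommRing B] (n : ℤ) :
    Nonempty ((Tn B n).obj (ModuleCat.of B B) ≅
      (DCoh.inD (Spec (CommRingCat.of B)) (Coh.structureModule (Spec (CommRingCat.of B))))⟦n⟧) :=
  nonempty_Tn_iso n (tildeSelf (R := CommRingCat.of B)).symm

/-- Tensoring the shifted structure sheaf with a quasi-coherent module. -/
theorem exists_ltensor_Tn {G : (Spec (CommRingCat.of B)).Modules} (hG : Coh.IsQCoh G) [DCoh.HasLTensorMod G] (n : ℤ) :
    ∃ N : ModuleCat.{u} B, Nonempty (G ≅ (tf B).obj N) ∧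
      Nonempty ((DCoh.LTensorMod G).obj ((Tn B n).obj (ModuleCat.of B B)) ≅ (Tn B n).obj N) := by
  obtain ⟨N, ⟨e⟩⟩ := H17.OmegaBij.exists_tilde_iso (CommRingCat.of B) G hG
  obtain ⟨a⟩ := nonempty_Tn_one B n
  obtain ⟨b⟩ := nonempty_ltensor_one G n
  obtain ⟨c⟩ := nonempty_Tn_iso n (N := N) e
  exact ⟨N, ⟨e⟩, ⟨(DCoh.LTensorMod G).mapIso a ≪≫ b ≪≫ c.symm⟩⟩

/-- Flatness over an affine base, on modules. -/
theorem flat_of_isFlatOver (φ : A →+* B) (N : ModuleCat.{u} B)
    (h : FlatMod.IsFlatOver (Spec.map (CommRingCat.ofHom φ)) ((tf B).obj N)) :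
    Module.Flat A ((ModuleCat.restrictScalars.{u} φ).obj N) := by
  let f := Spec.map (CommRingCat.ofHom φ)
  let F := tilde (R := CommRingCat.of B) N
  have hle : (⊤ : (Spec (CommRingCat.of B)).Opens) ≤ f ⁻¹ᵁ ⊤ := le_top
  have hiff := H8Props.FlatLocus.flat_sections_over_iff f F (inferInstanceAs F.IsQuasicoherent)
    (isAffineOpen_top _) (isAffineOpen_top _) hle
  letI := Module.compHom Γ(F, ⊤) (f.appLE ⊤ ⊤ hle).hom
  refine (H06EGA9.flat_iff_of_semilinear (Scheme.ΓSpecIso (CommRingCat.of A)).inv.hom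
    (ConcreteCategory.bijective_of_isIso (Scheme.ΓSpecIso (CommRingCat.of A)).inv)
    (N := (ModuleCat.restrictScalars.{u} φ).obj N) (N' := Γ(F, ⊤))
    (tilde.toOpen (R := CommRingCat.of B) N ⊤).hom.toAddMonoidHom
    (haveI := tilde.isIso_toOpen_top (R := CommRingCat.of B) (M := N)
    ConcreteCategory.bijective_of_isIso (tilde.toOpen (R := CommRingCat.of B) N ⊤)) ?_).2
    (hiff.2 fun x => h x.1)
  intro r m
  refine ((tilde.toOpen (R := CommRingCat.of B) N ⊤).hom.map_smul (φ r) m).trans ?_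
  have h2 := Scheme.Modules.smul_Spec_def (M := F) (U := ⊤) (φ r) ((tilde.toOpen (R := CommRingCat.of B) N ⊤).hom m)
  rw [Subsingleton.elim (⊤ : (Spec (CommRingCat.of B)).Opens).leTop.op (𝟙 _),
    CategoryTheory.Functor.map_id] at h2
  refine h2.trans (congrArg (fun (z : Γ(Spec (CommRingCat.of B), ⊤)) =>
    z • (show Γ(F, ⊤) from (tilde.toOpen (R := CommRingCat.of B) N ⊤).hom m)) ?_)
  have e := congrArg (fun g => g r) (Scheme.ΓSpecIso_inv_naturality (CommRingCat.ofHom φ))
  refine e.trans ?_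
  simp [f, Scheme.Hom.appLE]

end Affine

end Groth.Agent.H16Derived.RelTensor
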