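import Groth.Agent.H16Derived.RelTensor.Local
import Groth.Agent.H16Derived.BaseChange.RelFlatPull
import Groth.Agent.H16Derived.KFlat.PerfConcD
import Groth.Agent.H16Derived.Thomason.Glue
import Groth.Agent.H16Derived.ProjFormula.Main

/-!
# Base change with flat coefficients over an affine chart of the base
-/

set_option autoImplicit false
set_option linter.style.haveILetI false
set_option backward.isDefEq.respectTransparency false

universe u

open CategoryTheory CategoryTheory.Limits AlgebraicGeometry CategoryTheory.Functor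

attribute [local instance] HasDerivedCategory.standard

noncomputable section

namespace Groth.Agent.H16Derived.RelTensor

open Groth.Agent.H16Derived.KFlat Groth.Agent.H16Derived.KFlat.Stalk Groth.Agent.H16Derived.BaseChange

variable {X Y : Scheme.{u}}

/-- The shifted structure sheaf pulls back to itself. -/
theorem nonempty_lpull_one (g : X ⟶ Y) [DCoh.HasLpull g] (n : ℤ) :
    Nonempty ((DCoh.Lpull g).obj ((DCoh.inD Y (Coh.structureModule Y))⟦n⟧) ≅
      (DCoh.inD X (Coh.structureModule X))⟦n⟧) := by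
  letI := lpullCommShift g
  let hT : FlatMod.IsFinLocFree (Coh.structureModule Y) := fun _ => ⟨⊤, 1, trivial,
    ⟨(Scheme.Modules.restrictFunctorIsoPullback (⊤ : Y.Opens).ι).app _ ≪≫ structurePullbackIso _ ≪≫
      (coproductUniqueIso fun _ : Fin 1 => Coh.structureModule _).symm⟩⟩
  exact ⟨((DCoh.Lpull g).commShiftIso n).app _ ≪≫ (shiftFunctor _ n).mapIso
    (lpullSingleIso g hT 0 ≪≫ (DerivedCategory.singleFunctor X.Modules 0).mapIso (structurePullbackIso g))⟩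

/-- Maps stay invertible after the derived tensor product and restriction, for composites. -/
theorem isIso_map_of_natIso {C D : Type*} [Category C] [Category D] {F G : C ⥤ D} (e : F ≅ G) {a b : C} (c : a ⟶ b)
    [IsIso (F.map c)] : IsIso (G.map c) :=
  (NatIso.isIso_map_iff e c).1 ‹_›

theorem isIso_map_of_natIso₂ {C D E : Type*} [Category C] [Category D] [Category E] {F : C ⥤ D} {F' : D ⥤ E}
    {G : C ⥤ E} (e : F ⋙ F' ≅ G) {a b : C} (c : a ⟶ b) [IsIso (F.map c)] : IsIso (G.map c) := by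
  haveI : IsIso ((F ⋙ F').map c) := inferInstanceAs (IsIso (F'.map (F.map c)))
  exact isIso_map_of_natIso e c

/-- The shifted structure sheaf of an open, extended by zero, is computed by a flat complex in one degree. -/
theorem exists_flat_model (V : X.Opens) [PreservesFiniteLimits (CxOX.extZero V.ι)] (n : ℤ) :
    ∃ P : CochainComplex X.Modules ℤ, P.IsStrictlyLE (-n) ∧ (∀ q, FlatMod.IsFlat (P.X q)) ∧
      Nonempty (DerivedCategory.Q.obj P ≅
        (CxOX.extZeroD V.ι).obj ((DCoh.inD (V : Scheme.{u}) (Coh.structureModule (V : Scheme.{u})))⟦n⟧)) := by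
  let C₀ := (CochainComplex.singleFunctor (V : Scheme.{u}).Modules (-n)).obj (Coh.structureModule (V : Scheme.{u}))
  refine ⟨((CxOX.extZero V.ι).mapHomologicalComplex (ComplexShape.up ℤ)).obj C₀,
    (CochainComplex.isStrictlyLE_iff _ _).2 fun i hi => (CxOX.extZero V.ι).map_isZero
      (HomologicalComplex.isZero_single_obj_X _ _ _ _ (by omega)), fun q => ?_, ⟨?_⟩⟩
  · by_cases hq : q = -n
    · subst hq
      let e := (CxOX.extZero V.ι).mapIso (HomologicalComplex.singleObjXSelf (ComplexShape.up ℤ) (-n)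
        (Coh.structureModule (V : Scheme.{u})))
      exact isFlat_of_retract e.hom e.inv e.hom_inv_id (ProjFormula.isFlat_N₁ V)
    · exact isFlat_of_isZero ((CxOX.extZero V.ι).map_isZero (HomologicalComplex.isZero_single_obj_X _ _ _ _ hq))
  · exact ((CxOX.extZero V.ι).mapDerivedCategoryFactors.app C₀).symm ≪≫ (CxOX.extZeroD V.ι).mapIso
      (((DerivedCategory.singleFunctorIsoCompQ _ (-n)).app _).symm ≪≫
        (((DerivedCategory.singleFunctors (V : Scheme.{u}).Modules).shiftIso n (-n) 0 (add_neg_cancel n)).app _).symm)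

variable {A A' : Type u} [CommRing A] [CommRing A'] [Algebra A A']
  {X' W' : Scheme.{u}} (g' : X' ⟶ X) (G : X.Modules) (W : X.Opens) (fW : (W : Scheme.{u}) ⟶ Spec (CommRingCat.of A))
  (fW' : W' ⟶ Spec (CommRingCat.of A')) (gW : W' ⟶ W) (iX' : W' ⟶ X')
  [DCoh.HasLpull g'] [DCoh.HasLpull W.ι] [DCoh.HasLpull gW] [DCoh.HasLpull iX']
  [DCoh.HasLTensorMod G] [DCoh.HasLTensorMod (pullG g' G)]
  (kc : DCoh.Lpull W.ι ⋙ DCoh.Lpull gW ≅ DCoh.Lpull g' ⋙ DCoh.Lpull iX')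

/-- Restriction to the chart after tensoring. -/
abbrev Ψ₁ : DCoh.D X ⥤ DCoh.D (W : Scheme.{u}) := DCoh.LTensorMod G ⋙ DCoh.Lpull W.ι

/-- The target. -/
abbrev Ψ₂ : DCoh.D X ⥤ DCoh.D W' := DCoh.Lpull g' ⋙ DCoh.LTensorMod (pullG g' G) ⋙ DCoh.Lpull iX'

/-- The comparison on the chart. -/
def νX : Ψ₁ G W ⋙ DCoh.Lpull gW ⟶ Ψ₂ g' G iX' where
  app E := kc.hom.app ((DCoh.LTensorMod G).obj E) ≫ (DCoh.Lpull iX').map ((μ g' G).app E)
  naturality E E' e := by
    have h1 := kc.hom.naturality ((DCoh.LTensorMod G).map e)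
    have h2 := congrArg (DCoh.Lpull iX').map ((μ g' G).naturality e)
    simp only [Functor.comp_map, Functor.map_comp] at h1 h2 ⊢
    rw [reassoc_of% h1, h2, Category.assoc]

/-- The same on the chart. -/
def νW [PreservesFiniteLimits (CxOX.extZero W.ι)] :
    (CxOX.extZeroD W.ι ⋙ Ψ₁ G W) ⋙ DCoh.Lpull gW ⟶ CxOX.extZeroD W.ι ⋙ Ψ₂ g' G iX' where
  app K := (νX g' G W gW iX' kc).app ((CxOX.extZeroD W.ι).obj K)
  naturality _ _ e := (νX g' G W gW iX' kc).naturality ((CxOX.extZeroD W.ι).map e)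

variable [DCoh.HasLpull fW] [DCoh.HasRpush fW] [DCoh.HasLpull fW'] [DCoh.HasRpush fW'] [DCoh.HasLpull (gS A A')]

/-- The transformation on the chart. -/
def sigma (χ : DCoh.Lpull (gS A A') ⋙ DCoh.Lpull fW' ≅ DCoh.Lpull fW ⋙ DCoh.Lpull gW) :
    Ψ₁ G W ⋙ DCoh.Rpush fW ⋙ DCoh.Lpull (gS A A') ⟶ Ψ₂ g' G iX' ⋙ DCoh.Rpush fW' :=
  Functor.whiskerLeft (Ψ₁ G W) (bc (lpullRpushAdj fW) (lpullRpushAdj fW') χ.hom) ≫
    (Functor.associator _ _ _).inv ≫ Functor.whiskerRight (νX g' G W gW iX' kc) (DCoh.Rpush fW')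

theorem sigma_app (χ : DCoh.Lpull (gS A A') ⋙ DCoh.Lpull fW' ≅ DCoh.Lpull fW ⋙ DCoh.Lpull gW) (E : DCoh.D X) :
    (sigma g' G W fW fW' gW iX' kc χ).app E =
      bcApp (lpullRpushAdj fW) (lpullRpushAdj fW') χ.hom ((DCoh.Lpull W.ι).obj ((DCoh.LTensorMod G).obj E)) ≫
        (DCoh.Rpush fW').map (kc.hom.app ((DCoh.LTensorMod G).obj E) ≫ (DCoh.Lpull iX').map ((μ g' G).app E)) := by
  simp [sigma, bc, νX]

variable [IsOpenImmersion iX']

/-- The local hypothesis of the dévissage. -/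
theorem local_chart (w : gW ≫ W.ι = iX' ≫ g') (hG : Coh.IsQCoh G)
    (hflat : FlatMod.IsFlatOver fW (pullG W.ι G)) [QuasiSeparatedSpace (W : Scheme.{u})]
    [PreservesFiniteLimits (CxOX.extZero W.ι)] :
    Local fW gW (νW g' G W gW iX' kc) := by
  intro B _ k _ _ _ n ψ hψ
  haveI : QuasiCompact k := quasiCompact_of_compactSpace k
  haveI := hasLTensorMod (pullG W.ι G)
  haveI := hasLTensorMod (pullG iX' (pullG g' G))
  haveI := QCohD.hasRpush W.ι
  let O₀ := (Tn B n).obj (ModuleCat.of B B)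
  let E₀ := (DCoh.Rpush k).obj O₀
  let JE := (CxOX.extZeroD W.ι).obj E₀
  have hGW : Coh.IsQCoh (pullG W.ι G) := H29Fitt.isQCoh_pullback _ G hG
  haveI := Thomason.isIso_extZeroRdAdj_unit W
  let eJ : (DCoh.Lpull W.ι).obj JE ≅ E₀ :=
    (lpullRdIso W.ι).app JE ≪≫ (asIso ((Thomason.extZeroRdAdj W).unit.app E₀)).symm
  obtain ⟨a₁⟩ := nonempty_lpull_ltensor W.ι G JE
  let eΦ₁ : (DCoh.Lpull W.ι).obj ((DCoh.LTensorMod G).obj JE) ≅ (DCoh.LTensorMod (pullG W.ι G)).obj E₀ :=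
    a₁ ≪≫ (DCoh.LTensorMod _).mapIso eJ
  haveI := isIso_counit_of_openImmersion k (lpullRpushAdj k)
  refine ⟨(NatTrans.isIso_app_iff_of_iso (lpullRpushAdj k).unit eΦ₁).2
    (isIso_unit_ltensor_rpush k hGW (isQCohD_Tn n _)), ?_, ?_⟩
  · haveI := hasLTensorMod (pullG k (pullG W.ι G))
    obtain ⟨a₂⟩ := nonempty_lpull_ltensor k (pullG W.ι G) E₀
    obtain ⟨N, ⟨eG⟩, ⟨a₃⟩⟩ := exists_ltensor_Tn (B := B) (G := pullG k (pullG W.ι G)) (H29Fitt.isQCoh_pullback _ _ hGW) n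
    refine ⟨N, flat_of_isFlatOver ψ N ?_, ⟨(DCoh.Lpull k).mapIso eΦ₁ ≪≫ a₂ ≪≫
      (DCoh.LTensorMod _).mapIso (asIso ((lpullRpushAdj k).counit.app O₀)) ≪≫ a₃⟩⟩
    rw [hψ]
    exact fun x => BaseChange.isFlatOverAt_of_iso eG (isFlatOver_pullback_of_flat k fW hflat x)
  intro B' _ gU k' _ _ _ hU
  haveI : QuasiCompact k' := MorphismProperty.of_isPullback hU ‹QuasiCompact k›
  haveI := hasLpull gU
  let Φ₂E := (DCoh.Lpull iX').obj ((DCoh.LTensorMod (pullG g' G)).obj ((DCoh.Lpull g').obj JE))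
  obtain ⟨θ⟩ := nonempty_sq hU.w (isLp_self k) (isLp_self k') (isLp_self gW) (isLp_self gU)
  haveI := bc_separated hU (ti_of_flat k gW) _ _ _ _ _ _ (lpullRpushAdj k) (lpullRpushAdj k')
    (isLp_self k) (isLp_self k') (isLp_self gW) (isLp_self gU) θ O₀ (isQCohD_Tn n _)
  let eb : (DCoh.Lpull gW).obj E₀ ≅ (DCoh.Rpush k').obj ((DCoh.Lpull gU).obj O₀) :=
    asIso (bcApp (lpullRpushAdj k) (lpullRpushAdj k') θ.hom O₀)
  obtain ⟨b₁⟩ := nonempty_lpull_ltensor iX' (pullG g' G) ((DCoh.Lpull g').obj JE)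
  let eΦ₂ : Φ₂E ≅ (DCoh.LTensorMod (pullG iX' (pullG g' G))).obj ((DCoh.Rpush k').obj ((DCoh.Lpull gU).obj O₀)) :=
    b₁ ≪≫ (DCoh.LTensorMod _).mapIso ((kc.app JE).symm ≪≫ (DCoh.Lpull gW).mapIso eJ ≪≫ eb)
  have hG' : Coh.IsQCoh (pullG iX' (pullG g' G)) := H29Fitt.isQCoh_pullback _ _ (H29Fitt.isQCoh_pullback _ G hG)
  haveI := isIso_counit_of_openImmersion k' (lpullRpushAdj k')
  refine ⟨(NatTrans.isIso_app_iff_of_iso (lpullRpushAdj k').unit eΦ₂).2
    (isIso_unit_ltensor_rpush k' hG' (QCohD.isQCohD_lpull gU (isQCohD_Tn n _))), ?_, ?_⟩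
  swap
  · haveI := hasLTensorMod (pullG k' (pullG iX' (pullG g' G)))
    obtain ⟨b₂⟩ := nonempty_lpull_ltensor k' (pullG iX' (pullG g' G))
      ((DCoh.Rpush k').obj ((DCoh.Lpull gU).obj O₀))
    obtain ⟨N', -, ⟨b₃⟩⟩ := exists_ltensor_Tn (B := B') (G := pullG k' (pullG iX' (pullG g' G)))
      (H29Fitt.isQCoh_pullback _ _ hG') n
    obtain ⟨o₁⟩ := nonempty_Tn_one B n
    obtain ⟨o₂⟩ := nonempty_lpull_one gU n
    obtain ⟨o₃⟩ := nonempty_Tn_one B' n
    exact ⟨N', ⟨(DCoh.Lpull k').mapIso eΦ₂ ≪≫ b₂ ≪≫ (DCoh.LTensorMod _).mapIso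
      (asIso ((lpullRpushAdj k').counit.app _) ≪≫ (DCoh.Lpull gU).mapIso o₁ ≪≫ o₂ ≪≫ o₃.symm) ≪≫ b₃⟩⟩
  -- the comparison is an isomorphism in the top degree
  let σ : Spec (CommRingCat.of B) ⟶ X := k ≫ W.ι
  let σ' : Spec (CommRingCat.of B') ⟶ X' := k' ≫ iX'
  haveI := hasLpull σ
  haveI := hasLpull σ'
  haveI := hasLTensorMod (pullG σ G)
  haveI := hasLTensorMod (pullG σ' (pullG g' G))
  let V : X.Opens := σ.opensRange
  let r := σ.isoOpensRange
  haveI := hasLpull V.ι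
  haveI := hasLpull r.inv
  haveI := QCohD.hasRpush V.ι
  haveI := preservesFiniteLimits_extZero V
  obtain ⟨eσ⟩ := ((isLp_self W.ι).comp (isLp_self k)).unique (isLp_self σ)
  obtain ⟨eV⟩ := (((isLp_self σ).comp (isLp_self r.inv)).congr σ.isoOpensRange_inv_comp).unique (isLp_self V.ι)
  obtain ⟨o₁⟩ := nonempty_Tn_one B n
  obtain ⟨o₂⟩ := nonempty_lpull_one r.inv n
  let eF : (rd V.ι).obj JE ≅ (DCoh.inD (V : Scheme.{u}) (Coh.structureModule (V : Scheme.{u})))⟦n⟧ :=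
    ((lpullRdIso V.ι).app JE).symm ≪≫ eV.app JE ≪≫ (DCoh.Lpull r.inv).mapIso (eσ.app JE ≪≫
      (DCoh.Lpull k).mapIso eJ ≪≫ asIso ((lpullRpushAdj k).counit.app O₀) ≪≫ o₁) ≪≫ o₂
  obtain ⟨P, hPb, hPf, ⟨eP⟩⟩ := exists_flat_model V n
  haveI := hPb
  let c : DerivedCategory.Q.obj P ⟶ JE :=
    (eP ≪≫ (CxOX.extZeroD V.ι).mapIso eF.symm).hom ≫ (Thomason.extZeroRdAdj V).counit.app JE
  haveI : IsIso ((rd V.ι).map c) := by
    haveI := Thomason.isIso_rd_map_counit V JE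
    simp only [c, Functor.map_comp]
    infer_instance
  haveI : IsIso ((DCoh.Lpull σ).map c) := by
    haveI : IsIso ((DCoh.Lpull V.ι).map c) := isIso_map_of_natIso (lpullRdIso V.ι).symm c
    haveI := hasLpull r.hom
    obtain ⟨e'⟩ := (((isLp_self V.ι).comp (isLp_self r.hom)).congr σ.isoOpensRange_hom_ι).unique (isLp_self σ)
    exact isIso_map_of_natIso₂ e'.symm c
  obtain ⟨eg⟩ := (((isLp_self g').comp (isLp_self σ')).congr
    (show σ' ≫ g' = gU ≫ σ by simp [σ, σ', ← w, reassoc_of% hU.w])).unique ((isLp_self σ).comp (isLp_self gU))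
  obtain ⟨eσ'⟩ := ((isLp_self iX').comp (isLp_self k')).unique (isLp_self σ')
  haveI : IsIso ((DCoh.Lpull σ').map ((DCoh.Lpull g').map c)) :=
    isIso_map_of_natIso₂ eg c
  haveI : IsIso ((DCoh.Lpull σ').map ((DCoh.LTensorMod (pullG g' G)).map ((DCoh.Lpull g').map c))) :=
    isIso_lpull_ltensor_map σ' _ _
  haveI : IsIso ((DCoh.Lpull σ).map ((DCoh.LTensorMod G).map c)) := isIso_lpull_ltensor_map σ _ _
  haveI : IsIso ((DCoh.Lpull σ').map ((DCoh.Lpull g').map ((DCoh.LTensorMod G).map c))) :=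
    isIso_map_of_natIso₂ eg ((DCoh.LTensorMod G).map c)
  have h1 : Approx (-n) ((DCoh.Lpull σ').map ((μ g' G).app JE)) := by
    refine ((approx_μ g' G P (-n) hPf).lpull σ').arrow
      (asIso ((DCoh.Lpull σ').map ((DCoh.Lpull g').map ((DCoh.LTensorMod G).map c)))).symm
      (asIso ((DCoh.Lpull σ').map ((DCoh.LTensorMod (pullG g' G)).map ((DCoh.Lpull g').map c)))).symm ?_
    simp only [Iso.symm_hom, asIso_inv]
    rw [IsIso.comp_inv_eq, Category.assoc, IsIso.eq_inv_comp, ← Functor.map_comp, ← Functor.map_comp]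
    exact congrArg (DCoh.Lpull σ').map ((μ g' G).naturality c)
  have h2 : Approx (-n) ((DCoh.Lpull k').map ((DCoh.Lpull iX').map ((μ g' G).app JE))) :=
    h1.arrow ((eσ'.app _).symm) ((eσ'.app _).symm) (eσ'.inv.naturality ((μ g' G).app JE))
  show Approx (-n) ((DCoh.Lpull k').map (kc.hom.app _ ≫ (DCoh.Lpull iX').map ((μ g' G).app JE)))
  rw [Functor.map_comp]
  exact h2.iso_comp ((DCoh.Lpull k').mapIso (kc.app _))

/-- **Base change on a chart.** -/
theorem isIso_sigma (w : gW ≫ W.ι = iX' ≫ g') (hp : IsPullback gW fW' fW (gS A A')) (hG : Coh.IsQCoh G)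
    (hflat : FlatMod.IsFlatOver fW (pullG W.ι G)) [CompactSpace (W : Scheme.{u})]
    [QuasiSeparatedSpace (W : Scheme.{u})]
    (χ : DCoh.Lpull (gS A A') ⋙ DCoh.Lpull fW' ≅ DCoh.Lpull fW ⋙ DCoh.Lpull gW)
    (E : DCoh.D X) (hE : DCoh.IsQCohD E) : IsIso ((sigma g' G W fW fW' gW iX' kc χ).app E) := by
  haveI := preservesFiniteLimits_extZero W
  haveI := QCohD.hasRpush W.ι
  haveI := QCohD.hasRpush iX'
  haveI := hasLTensorMod (pullG W.ι G)
  haveI := hasLTensorMod (pullG iX' (pullG g' G))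
  let J := CxOX.extZeroD W.ι
  letI := ltensorModCommShift G
  haveI := ltensorMod_isTriangulated G
  letI := ltensorModCommShift (pullG g' G)
  haveI := ltensorMod_isTriangulated (pullG g' G)
  letI := lpullCommShift W.ι
  haveI := lpull_isTriangulated W.ι
  letI := lpullCommShift g'
  haveI := lpull_isTriangulated g'
  letI := lpullCommShift iX'
  haveI := lpull_isTriangulated iX'
  haveI := Thomason.isIso_extZeroRdAdj_unit W
  have eJ : ∀ K, (DCoh.Lpull W.ι).obj (J.obj K) ≅ K := fun K =>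
    (lpullRdIso W.ι).app (J.obj K) ≪≫ (asIso ((Thomason.extZeroRdAdj W).unit.app K)).symm
  have hGW : Coh.IsQCoh (pullG W.ι G) := H29Fitt.isQCoh_pullback _ G hG
  have hG' : Coh.IsQCoh (pullG iX' (pullG g' G)) := H29Fitt.isQCoh_pullback _ _ (H29Fitt.isQCoh_pullback _ G hG)
  let ε := (Thomason.extZeroRdAdj W).counit.app E
  let EW := (rd W.ι).obj E
  have hEW : DCoh.IsQCohD EW := QCohD.isQCohD_rd W.ι hE
  have key := isIso_τc (f := fW) (f' := fW') (g' := gW)
    (ν := νW g' G W gW iX' kc) hp (local_chart g' G W fW gW iX' kc w hG hflat)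
    (fun {K} hK => ?_) (fun {K} hK => ?_) (fun {ι} K _ => ?_) (fun {ι} K _ => ?_) χ EW hEW
  rotate_left
  · obtain ⟨a⟩ := nonempty_lpull_ltensor W.ι G (J.obj K)
    exact QCohD.isQCohD_iso (a ≪≫ (DCoh.LTensorMod _).mapIso (eJ K)).symm (isQCohD_ltensorMod hGW hK)
  · obtain ⟨b⟩ := nonempty_lpull_ltensor iX' (pullG g' G) ((DCoh.Lpull g').obj (J.obj K))
    exact QCohD.isQCohD_iso (b ≪≫ (DCoh.LTensorMod _).mapIso ((kc.app (J.obj K)).symm ≪≫
      (DCoh.Lpull gW).mapIso (eJ K))).symm (isQCohD_ltensorMod hG' (QCohD.isQCohD_lpull gW hK))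
  · haveI : J.IsLeftAdjoint := (Thomason.extZeroRdAdj W).isLeftAdjoint
    haveI : (DCoh.Lpull W.ι).IsLeftAdjoint := (lpullRpushAdj W.ι).isLeftAdjoint
    haveI := preservesCoproducts_ltensorMod G ι
    haveI : PreservesColimit (Discrete.functor fun i => J.obj (K i)) (Ψ₁ G W) := preservesColimit_comp _ _ _
    exact preservesColimit_comp K J (Ψ₁ G W)
  · haveI : J.IsLeftAdjoint := (Thomason.extZeroRdAdj W).isLeftAdjoint
    haveI : (DCoh.Lpull iX').IsLeftAdjoint := (lpullRpushAdj iX').isLeftAdjoint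
    haveI := preservesCoproducts_ltensorMod (pullG g' G) ι
    haveI := preservesCoproducts_lpull g' ι
    haveI : PreservesColimit (Discrete.functor fun i => J.obj (K i)) (Ψ₂ g' G iX') := by
      haveI : PreservesColimit (Discrete.functor fun i => (DCoh.Lpull g').obj (J.obj (K i)))
          (DCoh.LTensorMod (pullG g' G) ⋙ DCoh.Lpull iX') := preservesColimit_comp _ _ _
      exact preservesColimit_comp (fun i => J.obj (K i)) (DCoh.Lpull g') _
    exact preservesColimit_comp K J (Ψ₂ g' G iX')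
  haveI : IsIso ((sigma g' G W fW fW' gW iX' kc χ).app (J.obj EW)) := by
    rw [sigma_app]
    rw [τc_app] at key
    simpa [νX, νW] using key
  haveI := Thomason.isIso_rd_map_counit W E
  haveI : IsIso ((DCoh.Lpull W.ι).map ε) := isIso_map_of_natIso (lpullRdIso W.ι).symm ε
  haveI : IsIso ((DCoh.Lpull iX').map ((DCoh.Lpull g').map ε)) :=
    isIso_map_of_natIso₂ kc ε
  haveI : IsIso ((Ψ₁ G W).map ε) := isIso_lpull_ltensor_map W.ι G ε
  haveI : IsIso ((Ψ₂ g' G iX').map ε) := isIso_lpull_ltensor_map iX' (pullG g' G) ((DCoh.Lpull g').map ε)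
  have hn := (sigma g' G W fW fW' gW iX' kc χ).naturality ε
  rw [Functor.comp_map, Functor.comp_map] at hn
  haveI : IsIso ((DCoh.Rpush fW ⋙ DCoh.Lpull (gS A A')).map ((Ψ₁ G W).map ε)) := inferInstance
  haveI : IsIso ((DCoh.Rpush fW').map ((Ψ₂ g' G iX').map ε)) := inferInstance
  rw [show (sigma g' G W fW fW' gW iX' kc χ).app E = inv ((DCoh.Rpush fW ⋙ DCoh.Lpull (gS A A')).map ((Ψ₁ G W).map ε)) ≫
      (sigma g' G W fW fW' gW iX' kc χ).app (J.obj EW) ≫ (DCoh.Rpush fW').map ((Ψ₂ g' G iX').map ε) from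
    (IsIso.eq_inv_comp _).2 hn]
  infer_instance

end Groth.Agent.H16Derived.RelTensor
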