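import Groth.Agent.H16Derived.RelTensor.Chart

/-!
# Base change for `Rf_*(E ⊗^L G)` with `G` flat over the base
-/

set_option autoImplicit false
set_option linter.style.haveILetI false
set_option backward.isDefEq.respectTransparency false

universe u

open CategoryTheory CategoryTheory.Limits AlgebraicGeometry

attribute [local instance] HasDerivedCategory.standard

noncomputable section

namespace Groth.Agent.H16Derived.RelTensor

open Groth.Agent.H16Derived.KFlat Groth.Agent.H16Derived.KFlat.Stalk Groth.Agent.H16Derived.BaseChange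

section Edges

variable {A B C D : Type*} [Category A] [Category B] [Category C] [Category D]
  {F : A ⥤ B} {R : B ⥤ A} {F' : C ⥤ D} {R' : D ⥤ C} {G G₀ : A ⥤ C} {G' G₀' : B ⥤ D}

/-- The base change map after replacing two edges of the square by isomorphic ones. -/
theorem bcApp_edges (adj : F ⊣ R) (adj' : F' ⊣ R') (φ : G ⋙ F' ⟶ F ⋙ G') (j : G₀ ≅ G) (k : G₀' ≅ G') (E : B) :
    bcApp adj adj' (Functor.whiskerRight j.hom F' ≫ φ ≫ Functor.whiskerLeft F k.inv) E =
      j.hom.app (R.obj E) ≫ bcApp adj adj' φ E ≫ R'.map (k.inv.app E) := by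
  apply (adj'.homEquiv _ _).symm.injective
  rw [bcApp_symm, Adjunction.homEquiv_naturality_left_symm, Adjunction.homEquiv_naturality_right_symm, bcApp_symm]
  have h := k.inv.naturality (adj.counit.app E)
  dsimp at h ⊢
  simp only [Category.assoc]
  rw [h]

end Edges

variable {X X' S S' : Scheme.{u}} {f : X ⟶ S} {g : S' ⟶ S} {g' : X' ⟶ X} {f' : X' ⟶ S'}

/-- The comparison map of base change with coefficients. -/
def bcTensor [DCoh.HasLpull f] [DCoh.HasRpush f] [DCoh.HasLpull f'] [DCoh.HasRpush f'] [DCoh.HasLpull g]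
    [DCoh.HasLpull g'] (G : X.Modules) [DCoh.HasLTensorMod G] [DCoh.HasLTensorMod (pullG g' G)]
    (χ : DCoh.Lpull g ⋙ DCoh.Lpull f' ≅ DCoh.Lpull f ⋙ DCoh.Lpull g') (E : DCoh.D X) :
    (DCoh.Lpull g).obj ((DCoh.Rpush f).obj ((DCoh.LTensorMod G).obj E)) ⟶
      (DCoh.Rpush f').obj ((DCoh.LTensorMod (pullG g' G)).obj ((DCoh.Lpull g').obj E)) :=
  bcApp (lpullRpushAdj f) (lpullRpushAdj f') χ.hom ((DCoh.LTensorMod G).obj E) ≫
    (DCoh.Rpush f').map ((μ g' G).app E)

/-- **Base change with coefficients flat over the base.** -/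
theorem isIso_bcTensor (h : IsPullback g' f' f g) [QuasiCompact f] [QuasiSeparated f] [DCoh.HasLpull f]
    [DCoh.HasRpush f] [DCoh.HasLpull f'] [DCoh.HasRpush f'] [DCoh.HasLpull g] [DCoh.HasLpull g']
    {G : X.Modules} [DCoh.HasLTensorMod G] [DCoh.HasLTensorMod (pullG g' G)] (hG : Coh.IsQCoh G)
    (hflat : FlatMod.IsFlatOver f G) (χ : DCoh.Lpull g ⋙ DCoh.Lpull f' ≅ DCoh.Lpull f ⋙ DCoh.Lpull g')
    (E : DCoh.D X) (hE : DCoh.IsQCohD E) : IsIso (bcTensor G χ E) := by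
  refine isIso_of_charts _ fun y => ?_
  obtain ⟨_, ⟨V, hV : IsAffineOpen V, rfl⟩, hxV, -⟩ :=
    S.isBasis_affineOpens.exists_subset_of_mem_open (Set.mem_univ (g.base y)) isOpen_univ
  obtain ⟨_, ⟨U, hU : IsAffineOpen U, rfl⟩, hyU, hle⟩ :=
    S'.isBasis_affineOpens.exists_subset_of_mem_open (show y ∈ g ⁻¹ᵁ V from hxV) (g ⁻¹ᵁ V).isOpen
  haveI := hasLpull hU.fromSpec
  refine ⟨_, hU.fromSpec, inferInstance, inferInstance, by rw [hU.opensRange_fromSpec]; exact hyU, ?_⟩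
  letI := (g.appLE V U hle).hom.toAlgebra
  let A := Γ(S, V)
  let A' := Γ(S', U)
  let i : Spec (CommRingCat.of A) ⟶ S := hV.fromSpec
  let i' : Spec (CommRingCat.of A') ⟶ S' := hU.fromSpec
  have hb : gS A A' ≫ i = i' ≫ g := IsAffineOpen.SpecMap_appLE_fromSpec g hV hU hle
  let W : X.Opens := f ⁻¹ᵁ V
  let fW : (W : Scheme.{u}) ⟶ Spec (CommRingCat.of A) := (f ∣_ V) ≫ hV.isoSpec.hom
  have hW : IsPullback W.ι fW f i := by
    refine IsPullback.of_iso (isPullback_morphismRestrict f V).flip (Iso.refl _) (Iso.refl _) hV.isoSpec (Iso.refl _)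
      ?_ ?_ ?_ ?_
    · simp [W]
    · simp [fW]
    · simp
    · exact ((Category.comp_id _).trans hV.isoSpec_hom_fromSpec.symm)
  haveI : QuasiCompact fW := MorphismProperty.of_isPullback hW ‹QuasiCompact f›
  haveI : QuasiSeparated fW := MorphismProperty.of_isPullback hW ‹QuasiSeparated f›
  haveI : CompactSpace (W : Scheme.{u}) := QuasiCompact.compactSpace_of_compactSpace fW
  haveI : QuasiSeparatedSpace (W : Scheme.{u}) := quasiSeparatedSpace_of_quasiSeparated fW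
  let hW' := IsPullback.of_hasPullback fW (gS A A')
  let gW := pullback.fst fW (gS A A')
  let fW' := pullback.snd fW (gS A A')
  let iX' := h.lift (gW ≫ W.ι) (fW' ≫ i')
    (by
      refine (Category.assoc _ _ _).trans ((congrArg (gW ≫ ·) hW.w).trans ?_)
      refine ((Category.assoc _ _ _).symm.trans (congrArg (· ≫ i) hW'.w)).trans ?_
      exact (Category.assoc _ _ _).trans ((congrArg (fW' ≫ ·) hb).trans (Category.assoc _ _ _).symm))
  have h1 : iX' ≫ g' = gW ≫ W.ι := h.lift_fst _ _ _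
  have hV' : IsPullback iX' fW' f' i' := by
    refine IsPullback.of_right ?_ (h.lift_snd _ _ _) h
    rw [h1, ← hb]
    exact hW'.paste_horiz hW
  haveI : IsOpenImmersion i' := inferInstanceAs (IsOpenImmersion hU.fromSpec)
  haveI : IsOpenImmersion iX' := MorphismProperty.of_isPullback hV'.flip inferInstance
  haveI := hasLpull i
  haveI := QCohD.hasRpush i
  haveI := hasLpull i'
  haveI := hasLpull W.ι
  haveI := hasLpull iX'
  haveI := hasLpull gW
  haveI := hasLpull (gS A A')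
  haveI := hasLpull fW
  haveI := QCohD.hasRpush fW
  haveI := hasLpull fW'
  haveI := QCohD.hasRpush fW'
  haveI : IsOpenImmersion i := inferInstanceAs (IsOpenImmersion hV.fromSpec)
  obtain ⟨χ'⟩ := nonempty_sq hV'.w (isLp_self f') (isLp_self fW') (isLp_self i') (isLp_self iX')
  obtain ⟨α⟩ := nonempty_sq hW.w (isLp_self f) (isLp_self fW) (isLp_self i) (isLp_self W.ι)
  obtain ⟨j⟩ : Nonempty (DCoh.Lpull i ⋙ DCoh.Lpull (gS A A') ≅ DCoh.Lpull g ⋙ DCoh.Lpull i') :=
    ((isLp_self g).comp (isLp_self i')).unique (((isLp_self i).comp (isLp_self (gS A A'))).congr hb)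
  obtain ⟨kc⟩ : Nonempty (DCoh.Lpull W.ι ⋙ DCoh.Lpull gW ≅ DCoh.Lpull g' ⋙ DCoh.Lpull iX') :=
    ((isLp_self g').comp (isLp_self iX')).unique (((isLp_self W.ι).comp (isLp_self gW)).congr h1.symm)
  let Φ₀ : (DCoh.Lpull g ⋙ DCoh.Lpull i') ⋙ DCoh.Lpull fW' ≅ DCoh.Lpull f ⋙ (DCoh.Lpull g' ⋙ DCoh.Lpull iX') :=
    Functor.associator _ _ _ ≪≫ Functor.isoWhiskerLeft _ χ' ≪≫ (Functor.associator _ _ _).symm ≪≫
      Functor.isoWhiskerRight χ _ ≪≫ Functor.associator _ _ _
  have hΦ₀ : Φ₀.hom = pasteG χ.hom χ'.hom := by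
    ext c
    simp [Φ₀, pasteG]
  let Φ := Functor.isoWhiskerRight j _ ≪≫ Φ₀ ≪≫ Functor.isoWhiskerLeft (DCoh.Lpull f) kc.symm
  have hΦ : Φ.hom = Functor.whiskerRight j.hom _ ≫ Φ₀.hom ≫ Functor.whiskerLeft (DCoh.Lpull f) kc.inv := rfl
  haveI := isIso_counit_of_openImmersion i (lpullRpushAdj i)
  obtain ⟨ψ, hψ⟩ := exists_factor α (lpullRpushAdj i) Φ
  let M := (DCoh.LTensorMod G).obj E
  let N := (DCoh.LTensorMod (pullG g' G)).obj ((DCoh.Lpull g').obj E)
  haveI := isIso_bcApp_openImmersion hW α M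
  haveI := isIso_bcApp_openImmersion hV' χ' N
  have hflatW : FlatMod.IsFlatOver fW (pullG W.ι G) := isFlatOver_pullback hW hflat
  haveI hs := isIso_sigma g' G W fW fW' gW iX' kc h1.symm hW' hG hflatW ψ E hE
  rw [sigma_app] at hs
  have e0 : bcApp (lpullRpushAdj f) (lpullRpushAdj fW') Φ₀.hom M ≫ (DCoh.Rpush fW').map ((DCoh.Lpull iX').map ((μ g' G).app E)) =
      (DCoh.Lpull i').map (bcTensor G χ E) ≫ bcApp (lpullRpushAdj f') (lpullRpushAdj fW') χ'.hom N := by
    rw [hΦ₀, bcApp_pasteG (lpullRpushAdj f) (lpullRpushAdj f') χ.hom (lpullRpushAdj fW') χ'.hom M, bcTensor,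
      Functor.map_comp, Category.assoc, Category.assoc]
    exact congrArg (_ ≫ ·) (bcApp_naturality (lpullRpushAdj f') (lpullRpushAdj fW') χ'.hom ((μ g' G).app E)).symm
  have e1 : bcApp (lpullRpushAdj f) (lpullRpushAdj fW') Φ.hom M =
      (DCoh.Lpull (gS A A')).map (bcApp (lpullRpushAdj f) (lpullRpushAdj fW) α.hom M) ≫
        bcApp (lpullRpushAdj fW) (lpullRpushAdj fW') ψ.hom ((DCoh.Lpull W.ι).obj M) := by
    rw [← hψ]
    exact bcApp_pasteG (lpullRpushAdj f) (lpullRpushAdj fW) α.hom (lpullRpushAdj fW') ψ.hom M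
  have e2 : bcApp (lpullRpushAdj f) (lpullRpushAdj fW') Φ.hom M =
      j.hom.app _ ≫ bcApp (lpullRpushAdj f) (lpullRpushAdj fW') Φ₀.hom M ≫ (DCoh.Rpush fW').map (kc.inv.app M) := by
    rw [hΦ]
    exact bcApp_edges _ _ _ j kc M
  have e3 : bcApp (lpullRpushAdj f) (lpullRpushAdj fW') Φ.hom M ≫
      (DCoh.Rpush fW').map (kc.hom.app M ≫ (DCoh.Lpull iX').map ((μ g' G).app E)) =
      j.hom.app _ ≫ (DCoh.Lpull i').map (bcTensor G χ E) ≫ bcApp (lpullRpushAdj f') (lpullRpushAdj fW') χ'.hom N := by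
    rw [e2, ← e0, Category.assoc, Category.assoc, ← Functor.map_comp, Iso.inv_hom_id_app_assoc]
  have h4 : IsIso ((DCoh.Lpull i').map (bcTensor G χ E) ≫ bcApp (lpullRpushAdj f') (lpullRpushAdj fW') χ'.hom N) := by
    refine (isIso_comp_left_iff (j.hom.app _) _).1 ?_
    rw [← e3, e1, Category.assoc]
    infer_instance
  exact IsIso.of_isIso_comp_right _ (bcApp (lpullRpushAdj f') (lpullRpushAdj fW') χ'.hom N)

/-- The isomorphism form. -/
theorem nonempty_baseChange_iso (h : IsPullback g' f' f g) [QuasiCompact f] [QuasiSeparated f]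
    [DCoh.HasRpush f] [DCoh.HasRpush f'] [DCoh.HasLpull g] [DCoh.HasLpull g']
    {G : X.Modules} [DCoh.HasLTensorMod G] [DCoh.HasLTensorMod (pullG g' G)] (hG : Coh.IsQCoh G)
    (hflat : FlatMod.IsFlatOver f G) (E : DCoh.D X) (hE : DCoh.IsQCohD E) :
    Nonempty ((DCoh.Lpull g).obj ((DCoh.Rpush f).obj ((DCoh.LTensorMod G).obj E)) ≅
      (DCoh.Rpush f').obj ((DCoh.LTensorMod (pullG g' G)).obj ((DCoh.Lpull g').obj E))) := by
  haveI := hasLpull f
  haveI := hasLpull f'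
  obtain ⟨χ⟩ := nonempty_sq h.w (isLp_self f) (isLp_self f') (isLp_self g) (isLp_self g')
  haveI := isIso_bcTensor h hG hflat χ E hE
  exact ⟨asIso (bcTensor G χ E)⟩

end Groth.Agent.H16Derived.RelTensor
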