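import Groth.Agent.H17.ConsModModels
import Groth.Agent.H06EGA11c.StageFlat
import Groth.Agent.H06EGA9.FlatFibreBC
import Groth.Agent.H16Derived.BaseChange.RelFlatPull
import Groth.Agent.H16Derived.MVPush.Support
import Groth.Agent.S9221
import Groth.Agent.H10Coh.FinType2

/-!
# Noetherian models of finitely presented modules flat and of proper support over an affine base
-/

set_option autoImplicit false
set_option linter.style.haveILetI false
set_option backward.isDefEq.respectTransparency false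

universe u

open CategoryTheory CategoryTheory.Limits AlgebraicGeometry Opposite

noncomputable section

namespace Groth.Agent.H16Derived.RelTensor

open Groth.Agent.H7Lim.FPDescent Groth.Agent.H17.ConsProp

variable {R : Type u} [CommRing R] {X : Scheme.{u}}

/-- Pullback of a module along a factorization. -/
def pullFacIso {A B C : Scheme.{u}} {a : A ⟶ B} {b : B ⟶ C} {c : A ⟶ C} (w : a ≫ b = c) (F : C.Modules) :
    (Scheme.Modules.pullback c).obj F ≅ (Scheme.Modules.pullback a).obj ((Scheme.Modules.pullback b).obj F) :=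
  (Scheme.Modules.pullbackCongr w.symm).app F ≪≫ ((Scheme.Modules.pullbackComp a b).app F).symm

/-- Flatness over the base is unchanged by an isomorphism of the base. -/
theorem isFlatOver_comp_isIso {A B C : Scheme.{u}} {f : A ⟶ B} (e : B ⟶ C) [IsIso e] {M : A.Modules}
    (h : FlatMod.IsFlatOver f M) : FlatMod.IsFlatOver (f ≫ e) M := fun x =>
  (H06EGA9.isFlatOverAt_congr_iso (f ≫ e) ((Scheme.Modules.pullbackId A).app M) x).1
    (BaseChange.isFlatOver_pullback (g' := 𝟙 A) (f' := f ≫ e) (g := inv e)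
      (IsPullback.of_horiz_isIso ⟨by simp⟩) h x)

/-- **A Noetherian model.** -/
theorem exists_flat_proper_model (f : X ⟶ (subringCone R).pt) [LocallyOfFinitePresentation f] [QuasiCompact f]
    [QuasiSeparated f] (G : X.Modules) (hG : CohB1.IsFP G) (hflat : FlatMod.IsFlatOver f G)
    (hsupp : ClSub.IsProperOver f (CohB1.support G)) :
    ∃ (i : (Finset R)ᵒᵖ) (X₀ : Scheme.{u}) (f₀ : X₀ ⟶ ((subringFunctor R).op ⋙ Scheme.Spec).obj i)
      (G₀ : X₀.Modules) (q : X ⟶ X₀), LocallyOfFiniteType f₀ ∧ QuasiCompact f₀ ∧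
        IsPullback q f f₀ ((subringCone R).π.app i) ∧ Coh.IsCoh G₀ ∧ FlatMod.IsFlatOver f₀ G₀ ∧
        ClSub.IsProperOver f₀ (CohB1.support G₀) ∧ Nonempty (G ≅ (Scheme.Modules.pullback q).obj G₀) := by
  haveI : Coh.IsQCoh G := H29Fitt.isQCoh_of_isFP G hG
  obtain ⟨i, X₀, f₀, G₀, q, hlfp, hqc, hsq, hG₀, ⟨e⟩⟩ := H17.ConsProp.exists_mod_model f G hG
  haveI := hlfp
  haveI := hqc
  haveI : Nonempty (Finset R) := ⟨∅⟩
  let D := (subringFunctor R).op ⋙ Scheme.Spec
  let c := subringCone R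
  have hc : IsLimit c := isLimitSubringCone R
  haveI : CompactSpace X₀ := QuasiCompact.compactSpace_of_compactSpace f₀
  haveI : IsLocallyNoetherian X₀ := LocallyOfFiniteType.isLocallyNoetherian f₀
  haveI : IsNoetherian X₀ := {}
  -- flatness
  have hsqY : IsPullback (c.π.app i) (𝟙 c.pt) (𝟙 (D.obj i)) (c.π.app i) := IsPullback.id_vert _
  have hflat' : FlatMod.IsFlatOver f ((Scheme.Modules.pullback q).obj G₀) := fun x =>
    (H06EGA9.isFlatOverAt_congr_iso f e x).1 (hflat x)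
  obtain ⟨j, hj⟩ := H06EGA11c.exists_stage_isFlatOver c hc f₀ (𝟙 (D.obj i)) G₀ hG₀.1
    (H10Coh.isFP_of_isCoh G₀ hG₀) hsqY hsq hflat'
  let pY := pullback.fst (𝟙 (D.obj i)) (D.map j.hom)
  let gY := pullback.snd (𝟙 (D.obj i)) (D.map j.hom)
  haveI : IsIso gY := inferInstance
  let X₁ := pullback f₀ pY
  let f₁ : X₁ ⟶ D.obj j.left := pullback.snd f₀ pY ≫ gY
  let p₁ : X₁ ⟶ X₀ := pullback.fst f₀ pY
  have hpY : pY = gY ≫ D.map j.hom := by simpa [pY, gY] using pullback.condition (f := 𝟙 (D.obj i)) (g := D.map j.hom)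
  have h01 : IsPullback p₁ f₁ f₀ (D.map j.hom) :=
    IsPullback.of_iso (IsPullback.of_hasPullback f₀ pY) (Iso.refl _) (Iso.refl _) (asIso gY) (Iso.refl _) (by simp [p₁])
      (by simp [f₁]) (by simp) (by simp [hpY])
  have hG₁ : Coh.IsCoh ((Scheme.Modules.pullback p₁).obj G₀) := H17.ConsProp.isCoh_pullback p₁ hG₀
  have hflat₁ : FlatMod.IsFlatOver f₁ ((Scheme.Modules.pullback p₁).obj G₀) := isFlatOver_comp_isIso gY hj
  haveI : LocallyOfFiniteType f₁ := MorphismProperty.of_isPullback h01 inferInstance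
  haveI : QuasiCompact f₁ := MorphismProperty.of_isPullback h01 ‹QuasiCompact f₀›
  haveI : CompactSpace X₁ := QuasiCompact.compactSpace_of_compactSpace f₁
  haveI : IsLocallyNoetherian X₁ := LocallyOfFiniteType.isLocallyNoetherian f₁
  haveI : IsNoetherian X₁ := {}
  let q₁ : X ⟶ X₁ := h01.lift q (f ≫ c.π.app j.left) (by rw [Category.assoc, c.w]; exact hsq.w)
  have hsq₁ : IsPullback q₁ f f₁ (c.π.app j.left) :=
    IsPullback.of_right (by rw [h01.lift_fst, c.w]; exact hsq) (h01.lift_snd _ _ _) h01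
  let e₁ : G ≅ (Scheme.Modules.pullback q₁).obj ((Scheme.Modules.pullback p₁).obj G₀) :=
    e ≪≫ pullFacIso (h01.lift_fst _ _ _) G₀
  -- properness of the support
  have hsqY₁ : IsPullback (c.π.app j.left) (𝟙 c.pt) (𝟙 (D.obj j.left)) (c.π.app j.left) :=
    IsPullback.id_vert _
  haveI : Coh.IsQCoh ((Scheme.Modules.pullback p₁).obj G₀) := hG₁.1
  obtain ⟨k, φ, X₂, Y₂, f₂, g₂, pY₂, p₂, hY₂, hX₂, hs₂⟩ :=
    Groth.Agent.S9221.result D c hc j.left f₁ (𝟙 (D.obj j.left)) ((Scheme.Modules.pullback p₁).obj G₀) hG₁.2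
      f (𝟙 c.pt) (c.π.app j.left) q₁ hsqY₁ hsq₁ (by rw [← MVPush.support_iso e₁]; exact hsupp)
  haveI : IsIso g₂ := MorphismProperty.of_isPullback (P := MorphismProperty.isomorphisms _) hY₂
    (show IsIso (𝟙 _) from inferInstance)
  have hpY₂ : pY₂ = g₂ ≫ D.map φ := by simpa using hY₂.w
  let u₂ : X₂ ⟶ D.obj k := f₂ ≫ g₂
  have h12 : IsPullback p₂ u₂ f₁ (D.map φ) :=
    IsPullback.of_iso hX₂ (Iso.refl _) (Iso.refl _) (asIso g₂) (Iso.refl _) (by simp) (by simp [u₂]) (by simp)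
      (by simp [hpY₂])
  let q₂ : X ⟶ X₂ := h12.lift q₁ (f ≫ c.π.app k) (by rw [Category.assoc, c.w]; exact hsq₁.w)
  refine ⟨k, X₂, u₂, (Scheme.Modules.pullback p₂).obj ((Scheme.Modules.pullback p₁).obj G₀), q₂,
    MorphismProperty.of_isPullback h12 inferInstance, MorphismProperty.of_isPullback h12 ‹QuasiCompact f₁›,
    IsPullback.of_right (by rw [h12.lift_fst, c.w]; exact hsq₁) (h12.lift_snd _ _ _) h12,
    H17.ConsProp.isCoh_pullback p₂ hG₁, BaseChange.isFlatOver_pullback h12 hflat₁, ?_,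
    ⟨e₁ ≪≫ pullFacIso (h12.lift_fst _ _ _) _⟩⟩
  obtain ⟨hcl, hp⟩ := hs₂
  refine ⟨hcl, ?_⟩
  haveI := hp
  simp only [u₂, ← Category.assoc]
  infer_instance

end Groth.Agent.H16Derived.RelTensor
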