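import Groth.Agent.H16Derived.RelTensor.Main
import Groth.Agent.H16Derived.RelTensor.Model
import Groth.Agent.H16Derived.BaseChange.Finiteness
import Groth.Agent.H15Site.Shriek.Descend

/-!
# `Rf_*(E ⊗^L G)` is perfect
-/

set_option autoImplicit false
set_option linter.style.haveILetI false
set_option backward.isDefEq.respectTransparency false

universe u

open CategoryTheory CategoryTheory.Limits AlgebraicGeometry CategoryTheory.Pretriangulated

attribute [local instance] HasDerivedCategory.standard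

noncomputable section

namespace Groth.Agent.H16Derived.RelTensor

open Groth.Agent.H16Derived.KFlat Groth.Agent.H16Derived.KFlat.Stalk Groth.Agent.H16Derived.BaseChange
open Groth.Agent.H16Derived.Thomason Groth.Agent.H7Lim.FPDescent Groth.Agent.H17.ConsProp

attribute [local instance] hasCoproducts_D small_hom

variable {X S : Scheme.{u}}

/-- The tensor product with isomorphic modules. -/
theorem nonempty_ltensorMod_congr {G G' : X.Modules} [DCoh.HasLTensorMod G] [DCoh.HasLTensorMod G'] (e : G ≅ G')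
    (E : DCoh.D X) : Nonempty ((DCoh.LTensorMod G).obj E ≅ (DCoh.LTensorMod G').obj E) := by
  obtain ⟨a⟩ := ProperSupp.nonempty_ltensorMod_iso E G
  obtain ⟨b⟩ := ProperSupp.nonempty_ltensorMod_iso E G'
  exact ⟨a ≪≫ ((Dual.T X).obj E).mapIso ((DerivedCategory.singleFunctor X.Modules 0).mapIso e) ≪≫ b.symm⟩

/-- Over an affine base. -/
theorem isPerfect_rpush_ltensorMod_spec {R : CommRingCat.{u}} (f : X ⟶ Spec R) [LocallyOfFinitePresentation f]
    [QuasiCompact f] [QuasiSeparated f] [DCoh.HasRpush f] {G : X.Modules} [DCoh.HasLTensorMod G]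
    (hG : CohB1.IsFP G) (hflat : FlatMod.IsFlatOver f G) (hsupp : ClSub.IsProperOver f (CohB1.support G))
    {E : DCoh.D X} (hE : DCoh.IsPerfect E) :
    DCoh.IsPerfect ((DCoh.Rpush f).obj ((DCoh.LTensorMod G).obj E)) := by
  let fR : X ⟶ (subringCone (R : Type u)).pt := f
  haveI : LocallyOfFinitePresentation fR := ‹LocallyOfFinitePresentation f›
  haveI : QuasiCompact fR := ‹QuasiCompact f›
  haveI : QuasiSeparated fR := ‹QuasiSeparated f›
  obtain ⟨i, X₀, f₀, G₀, q, hlft, hqc₀, hsq, hG₀, hflat₀, hsupp₀, ⟨eG⟩⟩ :=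
    exists_flat_proper_model fR G hG hflat hsupp
  haveI := hlft
  haveI := hqc₀
  haveI : IsNoetherian (((subringFunctor (R : Type u)).op ⋙ Scheme.Spec).obj i) := inferInstance
  let γ : Spec R ⟶ ((subringFunctor (R : Type u)).op ⋙ Scheme.Spec).obj i := (subringCone (R : Type u)).π.app i
  replace hsq : IsPullback q f f₀ γ := hsq
  haveI : IsAffineHom γ := inferInstanceAs (IsAffineHom (Spec.map _))
  haveI : CompactSpace X₀ := QuasiCompact.compactSpace_of_compactSpace f₀
  haveI : IsLocallyNoetherian X₀ := LocallyOfFiniteType.isLocallyNoetherian f₀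
  haveI : QuasiSeparatedSpace X₀ := inferInstance
  haveI : CompactSpace X := QuasiCompact.compactSpace_of_compactSpace f
  haveI : QuasiSeparatedSpace X := quasiSeparatedSpace_of_quasiSeparated f
  haveI : IsAffineHom q := MorphismProperty.of_isPullback hsq.flip (inferInstanceAs (IsAffineHom γ))
  haveI : QuasiSeparated f₀ := inferInstance
  obtain ⟨Q₀, hQ₀, hgen₀⟩ := hasGen (X := X₀) Set.univ isClosed_univ (by simp)
  haveI := hasLpull q
  haveI := QCohD.hasRpush q
  haveI := hasLpull γ
  haveI := QCohD.hasRpush f₀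
  haveI := hasLTensorMod G₀
  let G' := pullG q G₀
  haveI := hasLTensorMod G'
  letI := rpushCommShift f
  haveI := rpush_isTriangulated f
  letI := ltensorModCommShift G'
  haveI := ltensorMod_isTriangulated G'
  letI := lpullCommShift q
  haveI := lpull_isTriangulated q
  obtain ⟨eE⟩ := nonempty_ltensorMod_congr (G' := G') eG E
  refine isPerfect_of_iso ((DCoh.Rpush f).mapIso eE).symm ?_
  let F := DCoh.LTensorMod G' ⋙ DCoh.Rpush f
  refine perfect_induction ((DCoh.Lpull q).obj Q₀) (isPerfect_lpull q hQ₀.1) (fun M hM h0 => ?_)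
    (fun R => DCoh.IsPerfect (F.obj R)) (stages_perfect_image F)
    (fun R n _ hR => isPerfect_of_iso ((F.commShiftIso n).app R).symm
      (PK.shift isClosed_univ ⟨hR, suppIn_univ _⟩ n).1)
    (fun i p hip _ hR => isPerfect_of_retract' (F.map i) (F.map p)
      (by rw [← Functor.map_comp, hip, CategoryTheory.Functor.map_id]) hR) ?_ hE
  · refine QCohD.AffineUnit.isZero_of_rpush q M hM (hgen₀ _ ⟨QCohD.isQCohD_rpush q hM, suppIn_univ _⟩ fun n t => ?_)
    let a := lpullRpushAdj q
    have h1 : (((DCoh.Lpull q).commShiftIso n).inv.app Q₀) ≫ (a.homEquiv _ _).symm t = 0 := h0 n _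
    apply (a.homEquiv _ _).symm.injective
    rw [← cancel_epi (((DCoh.Lpull q).commShiftIso n).inv.app Q₀), h1, Adjunction.homEquiv_counit,
      Functor.map_zero, zero_comp, comp_zero]
  · obtain ⟨e⟩ := nonempty_baseChange_iso hsq hG₀.1 hflat₀ Q₀ (PK.pq hQ₀).1
    exact isPerfect_of_iso e (isPerfect_lpull γ (ProperSupp.isPerfect_rpush_ltensorMod f₀ Q₀ hQ₀.1 G₀ hG₀ hflat₀ hsupp₀))

/-- **Direct images of perfect objects tensored with flat modules of proper support.** -/
theorem isPerfect_rpush_ltensorMod (f : X ⟶ S) [LocallyOfFinitePresentation f] [QuasiCompact f] [QuasiSeparated f]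
    [DCoh.HasRpush f] {G : X.Modules} [DCoh.HasLTensorMod G] (hG : CohB1.IsFP G)
    (hflat : FlatMod.IsFlatOver f G) (hsupp : ClSub.IsProperOver f (CohB1.support G))
    {E : DCoh.D X} (hE : DCoh.IsPerfect E) :
    DCoh.IsPerfect ((DCoh.Rpush f).obj ((DCoh.LTensorMod G).obj E)) := by
  refine isPerfect_of_rd fun s => ?_
  obtain ⟨_, ⟨V, hV : IsAffineOpen V, rfl⟩, hsV, -⟩ :=
    S.isBasis_affineOpens.exists_subset_of_mem_open (Set.mem_univ s) isOpen_univ
  refine ⟨(V : S.Opens), hsV, ?_⟩
  let i := hV.fromSpec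
  let hW := IsPullback.of_hasPullback f i
  haveI := hasLpull i
  haveI := hasLpull (pullback.fst f i)
  haveI := QCohD.hasRpush (pullback.snd f i)
  let G' := pullG (pullback.fst f i) G
  haveI := hasLTensorMod G'
  have hqG : Coh.IsQCoh G := H29Fitt.isQCoh_of_isFP G hG
  obtain ⟨eb⟩ := nonempty_baseChange_iso hW hqG hflat E (Dual.isQCohD_of_isPerfect hE)
  obtain ⟨e⟩ := QCohD.lpull_openImmersion i ((DCoh.Rpush f).obj ((DCoh.LTensorMod G).obj E))
  have hsupp' : ClSub.IsProperOver (pullback.snd f i) (CohB1.support G') := by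
    rw [show CohB1.support G' = (pullback.fst f i) ⁻¹' CohB1.support G from
      LeadProper.support_pullback G hqG (H17.ConsProp.isFT_of_isFP hG) _]
    exact H15Site.Shriek.isProperOver_baseChange hW hsupp
  have h1 : DCoh.IsPerfect ((rd i).obj ((DCoh.Rpush f).obj ((DCoh.LTensorMod G).obj E))) :=
    isPerfect_of_iso (eb.symm ≪≫ e)
      (isPerfect_rpush_ltensorMod_spec (pullback.snd f i) (H06EGA9.isFP_pullback _ hG)
        (isFlatOver_pullback hW hflat) hsupp' (isPerfect_lpull (pullback.fst f i) hE))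
  exact isPerfect_of_iso (rdComp hV.isoSpec.hom i (Scheme.Opens.ι V) hV.isoSpec_hom_fromSpec _).symm
    (isPerfect_rd hV.isoSpec.hom h1)

end Groth.Agent.H16Derived.RelTensor
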