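import Mathlib.Algebra.Category.ModuleCat.ChangeOfRings
import Mathlib.RingTheory.IsTensorProduct

/-!
# Universal maps into restrictions of scalars and pushout squares
-/

set_option autoImplicit false
set_option linter.style.haveILetI false

universe u

open CategoryTheory
open scoped TensorProduct

noncomputable section

namespace Groth.Agent.H16Derived.RelTensor

variable {A B : Type u} [CommRing A] [CommRing B]

/-- `w` is universal among maps to restrictions. -/
def Univ (φ : A →+* B) {p : ModuleCat.{u} A} {q : ModuleCat.{u} B}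
    (w : p ⟶ (ModuleCat.restrictScalars.{u} φ).obj q) : Prop :=
  ∀ r : ModuleCat.{u} B, Function.Bijective fun h : q ⟶ r => w ≫ (ModuleCat.restrictScalars.{u} φ).map h

theorem Univ.isIso {φ : A →+* B} {p : ModuleCat.{u} A} {q q' : ModuleCat.{u} B}
    {v : p ⟶ (ModuleCat.restrictScalars.{u} φ).obj q} (hv : Univ φ v) (c : q ⟶ q')
    (hw : Univ φ (v ≫ (ModuleCat.restrictScalars.{u} φ).map c)) : IsIso c := by
  obtain ⟨d, hd⟩ := (hw q).2 v
  dsimp at hd
  refine ⟨d, (hv q).1 ?_, (hw q').1 ?_⟩
  · dsimp
    rw [Functor.map_comp, ← Category.assoc, hd, CategoryTheory.Functor.map_id, Category.comp_id]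
  · dsimp
    rw [Functor.map_comp, ← Category.assoc, hd, CategoryTheory.Functor.map_id, Category.comp_id]

section Square

variable (A' B' : Type u) [CommRing A'] [CommRing B'] [Algebra A A'] [Algebra A B] [Algebra A' B']
  [Algebra B B'] [Algebra A B'] [IsScalarTower A A' B'] [IsScalarTower A B B']

/-- Universal maps compose along pushout squares. -/
theorem univ_comp [Algebra.IsPushout A A' B B']
    (c : ∀ y : ModuleCat.{u} B',
      (ModuleCat.restrictScalars.{u} (algebraMap A B)).obj ((ModuleCat.restrictScalars.{u} (algebraMap B B')).obj y) ⟶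
        (ModuleCat.restrictScalars.{u} (algebraMap A A')).obj ((ModuleCat.restrictScalars.{u} (algebraMap A' B')).obj y))
    (hc : ∀ (y y' : ModuleCat.{u} B') (h : y ⟶ y'),
      (ModuleCat.restrictScalars.{u} (algebraMap A B)).map ((ModuleCat.restrictScalars.{u} (algebraMap B B')).map h) ≫ c y' =
        c y ≫ (ModuleCat.restrictScalars.{u} (algebraMap A A')).map
          ((ModuleCat.restrictScalars.{u} (algebraMap A' B')).map h))
    (hci : ∀ y, IsIso (c y)) {N : ModuleCat.{u} B} {N' : ModuleCat.{u} B'}
    (w : N ⟶ (ModuleCat.restrictScalars.{u} (algebraMap B B')).obj N') (hw : Univ (algebraMap B B') w) :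
    Univ (algebraMap A A') ((ModuleCat.restrictScalars.{u} (algebraMap A B)).map w ≫ c N') := by
  let cB : B' → B' := fun b => (c (ModuleCat.of B' B')).hom b
  let u₀ : B' := cB 1
  have hcy : ∀ (y : ModuleCat.{u} B') (t : y), ((c y).hom t : y) = u₀ • t := fun y t => by
    let e : ModuleCat.of B' B' ⟶ y := ModuleCat.ofHom (LinearMap.toSpanSingleton B' y t)
    have h := ConcreteCategory.congr_hom (hc _ _ e) (1 : B')
    have e1 : (e.hom (1 : B') : y) = t := one_smul B' t
    have h' : (c y).hom (e.hom (1 : B')) = e.hom (cB 1) := h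
    exact ((congrArg (fun z : y => ((c y).hom z : y)) e1).symm.trans h').trans rfl
  have hu : IsUnit u₀ := by
    haveI := hci (ModuleCat.of B' B')
    obtain ⟨(b : B'), hb⟩ := (ConcreteCategory.bijective_of_isIso (c (ModuleCat.of B' B'))).2 (1 : B')
    have hb' : u₀ * (show B' from b) = (1 : B') := (hcy (ModuleCat.of B' B') b).symm.trans hb
    exact IsUnit.of_mul_eq_one b hb'
  letI mAN : Module A N := Module.compHom N (algebraMap A B)
  haveI tN : IsScalarTower A B N := IsScalarTower.of_algebraMap_smul fun _ _ => rfl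
  letI mBN' : Module B N' := Module.compHom N' (algebraMap B B')
  haveI tN' : IsScalarTower B B' N' := IsScalarTower.of_algebraMap_smul fun _ _ => rfl
  letI mA'N' : Module A' N' := Module.compHom N' (algebraMap A' B')
  haveI tN'' : IsScalarTower A' B' N' := IsScalarTower.of_algebraMap_smul fun _ _ => rfl
  let w' : N →ₗ[B] N' := { toFun := fun x => w.hom x, map_add' := fun x y => map_add w.hom x y,
                           map_smul' := fun b x => map_smul w.hom b x }
  let L : B' ⊗[B] N →ₗ[B'] N' := w'.liftBaseChange B'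
  have hL : Function.Bijective L := by
    let Tm : ModuleCat.{u} B' := ModuleCat.of B' (B' ⊗[B] N)
    let can : N ⟶ (ModuleCat.restrictScalars.{u} (algebraMap B B')).obj Tm :=
      ModuleCat.ofHom (Y := (ModuleCat.restrictScalars.{u} (algebraMap B B')).obj Tm)
        { toFun := fun x => (1 : B') ⊗ₜ[B] x
          map_add' := fun x y => TensorProduct.tmul_add _ _ _
          map_smul' := fun b x => by
            show (1 : B') ⊗ₜ[B] (b • x) = algebraMap B B' b • ((1 : B') ⊗ₜ[B] x)
            rw [TensorProduct.tmul_smul, algebraMap_smul] }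
    obtain ⟨k, hk⟩ := (hw Tm).2 can
    have hk' : ∀ x, k.hom (w.hom x) = (1 : B') ⊗ₜ[B] x := fun x => ConcreteCategory.congr_hom hk x
    have h1 : k.hom.comp L = LinearMap.id := by
      ext x
      show k.hom (L (1 ⊗ₜ[B] x)) = _
      rw [LinearMap.liftBaseChange_tmul, one_smul]
      exact hk' x
    have h2 : k ≫ ModuleCat.ofHom (X := Tm) (Y := N') L = 𝟙 N' := by
      refine (hw N').1 ?_
      ext x
      show L (k.hom (w.hom x)) = w.hom x
      rw [hk', LinearMap.liftBaseChange_tmul, one_smul]
      rfl
    refine ⟨fun a b hab => ?_, fun y => ⟨k.hom y, ConcreteCategory.congr_hom h2 y⟩⟩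
    have := congrArg k.hom hab
    rwa [← LinearMap.comp_apply, ← LinearMap.comp_apply, h1] at this
  let L' : B' ⊗[B] N ≃ₗ[B'] N' := LinearEquiv.ofBijective L hL
  let ce := Algebra.IsPushout.cancelBaseChange A A' B B' N
  have hspan : ∀ y : N', ∃ z : A' ⊗[A] N, y = u₀ • L (ce.symm z) := fun y => by
    refine ⟨ce (L'.symm (hu.unit.inv • y)), ?_⟩
    rw [LinearEquiv.symm_apply_apply]
    show y = u₀ • L' (L'.symm _)
    rw [LinearEquiv.apply_symm_apply, smul_smul]
    simp [IsUnit.mul_val_inv]
  have hgen : ∀ (s : A') (x : N), u₀ • L (ce.symm (s ⊗ₜ[A] x)) = s • (u₀ • w' x) := fun s x => by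
    rw [Algebra.IsPushout.cancelBaseChange_symm_tmul]
    show u₀ • (algebraMap A' B' s • (w.hom x : N')) = algebraMap A' B' s • (u₀ • w.hom x : N')
    rw [smul_smul, smul_smul, mul_comm]
  intro r
  constructor
  · intro h h' hh
    ext y
    obtain ⟨z, rfl⟩ := hspan y
    induction z using TensorProduct.induction_on with
    | zero => simp only [map_zero, smul_zero]; exact (map_zero h.hom).trans (map_zero h'.hom).symm
    | add a b ha hb =>
      rw [map_add, map_add, smul_add]
      exact (map_add h.hom _ _).trans ((congrArg₂ (· + ·) ha hb).trans (map_add h'.hom _ _).symm)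
    | tmul s x =>
      rw [hgen]
      refine (map_smul h.hom s _).trans ((congrArg (s • ·) ?_).trans (map_smul h'.hom s _).symm)
      have := ConcreteCategory.congr_hom hh x
      have e := hcy N' (w.hom x)
      exact ((congrArg h.hom e).symm.trans this).trans (congrArg h'.hom e)
  · intro h
    letI mAr : Module A r := Module.compHom r (algebraMap A A')
    haveI tr : IsScalarTower A A' r := IsScalarTower.of_algebraMap_smul fun _ _ => rfl
    let h' : N →ₗ[A] r := { toFun := fun x => h.hom x, map_add' := fun x y => map_add h.hom x y,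
                            map_smul' := fun a x => map_smul h.hom a x }
    let H : A' ⊗[A] N →ₗ[A'] r := h'.liftBaseChange A'
    let E₀ : N' →ₗ[A'] r := H ∘ₗ ce.toLinearMap ∘ₗ (L'.symm.toLinearMap.restrictScalars A') ∘ₗ
      ((hu.unit.inv • (LinearMap.id : N' →ₗ[B'] N')).restrictScalars A')
    let E : (ModuleCat.restrictScalars.{u} (algebraMap A' B')).obj N' ⟶ r :=
      ModuleCat.ofHom (X := (ModuleCat.restrictScalars.{u} (algebraMap A' B')).obj N')
        { toFun := fun y => E₀ y, map_add' := fun y z => map_add E₀ y z,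
          map_smul' := fun a y => map_smul E₀ a y }
    refine ⟨E, ?_⟩
    ext x
    show E₀ ((c N').hom (w.hom x)) = h.hom x
    rw [hcy]
    show H (ce (L'.symm (hu.unit.inv • (u₀ • (w.hom x : N'))))) = _
    rw [smul_smul, show hu.unit.inv * u₀ = 1 from hu.val_inv_mul, one_smul]
    have : L' ((1 : B') ⊗ₜ[B] x) = w.hom x := (LinearMap.liftBaseChange_tmul _ _ _ _).trans (one_smul _ _)
    rw [← this, LinearEquiv.symm_apply_apply, Algebra.IsPushout.cancelBaseChange_tmul]
    exact (LinearMap.liftBaseChange_tmul _ _ _ _).trans (one_smul _ _)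

end Square

end Groth.Agent.H16Derived.RelTensor
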