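import Groth.Agent.H16Derived.KFlat.FlatCriterion
import Groth.Agent.H16Derived.BaseChange.AffineSingle
import Mathlib.Algebra.Homology.DerivedCategory.TStructure

/-!
# Maps which are isomorphisms above a degree
-/

set_option autoImplicit false
set_option linter.style.haveILetI false
set_option backward.isDefEq.respectTransparency false

universe u

open CategoryTheory CategoryTheory.Limits AlgebraicGeometry CategoryTheory.Pretriangulated

attribute [local instance] HasDerivedCategory.standard

noncomputable section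

namespace Groth.Agent.H16Derived.RelTensor

open Groth.Agent.H16Derived.KFlat Groth.Agent.H16Derived.KFlat.Stalk Groth.Agent.H16Derived.BaseChange

variable {X Y : Scheme.{u}}

/-- The cone of `ν` lives in degrees `≤ b - 2`. -/
def Approx (b : ℤ) {M N : DCoh.D X} (ν : M ⟶ N) : Prop :=
  ∃ (C : DCoh.D X) (p : N ⟶ C) (q : C ⟶ M⟦(1 : ℤ)⟧), Triangle.mk ν p q ∈ distTriang (DCoh.D X) ∧ C.IsLE (b - 2)

theorem Approx.arrow {b : ℤ} {M N M' N' : DCoh.D X} {ν : M ⟶ N} {ν' : M' ⟶ N'} (h : Approx b ν)
    (a : M' ≅ M) (c : N' ≅ N) (w : ν' ≫ c.hom = a.hom ≫ ν) : Approx b ν' := by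
  obtain ⟨C, p, q, hT, hC⟩ := h
  refine ⟨C, c.hom ≫ p, q ≫ a.inv⟦(1 : ℤ)⟧', isomorphic_distinguished _ hT _ ?_, hC⟩
  exact Triangle.isoMk _ _ a c (Iso.refl C) w (Category.comp_id _)
    (by simp [← Functor.map_comp]; exact (Category.id_comp q).symm)

theorem Approx.iso_comp {b : ℤ} {M N M' : DCoh.D X} {ν : M ⟶ N} (h : Approx b ν) (a : M' ≅ M) :
    Approx b (a.hom ≫ ν) :=
  h.arrow a (Iso.refl N) (Category.comp_id _)

theorem Approx.comp_iso {b : ℤ} {M N N' : DCoh.D X} {ν : M ⟶ N} (h : Approx b ν) (c : N ≅ N') :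
    Approx b (ν ≫ c.hom) :=
  h.arrow (Iso.refl M) c.symm (by simp)

/-- Exact functors preserve the property. -/
theorem Approx.map {b : ℤ} {M N : DCoh.D X} {ν : M ⟶ N} (h : Approx b ν) (F : X.Modules ⥤ Y.Modules)
    [F.Additive] [PreservesFiniteLimits F] [PreservesFiniteColimits F] : Approx b (F.mapDerivedCategory.map ν) := by
  obtain ⟨C, p, q, hT, hC⟩ := h
  refine ⟨_, F.mapDerivedCategory.map p, _, F.mapDerivedCategory.map_distinguished _ hT, ?_⟩
  obtain ⟨K, hK, ⟨e⟩⟩ := C.exists_iso_Q_obj_of_isLE (b - 2)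
  haveI := hK
  haveI : CochainComplex.IsStrictlyLE ((F.mapHomologicalComplex (ComplexShape.up ℤ)).obj K) (b - 2) :=
    (CochainComplex.isStrictlyLE_iff _ _).2 fun i hi => F.map_isZero (K.isZero_of_isStrictlyLE (b - 2) i hi)
  haveI : ((F.mapHomologicalComplex (ComplexShape.up ℤ) ⋙ DerivedCategory.Q).obj K).IsLE (b - 2) :=
    inferInstanceAs ((DerivedCategory.Q.obj ((F.mapHomologicalComplex (ComplexShape.up ℤ)).obj K)).IsLE (b - 2))
  exact DerivedCategory.TStructure.t.isLE_of_iso
    (F.mapDerivedCategory.mapIso e ≪≫ F.mapDerivedCategoryFactors.app K).symm _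

/-- Maps to objects in degrees `≥ b` factor uniquely. -/
theorem Approx.bijective {b : ℤ} {M N Z : DCoh.D X} {ν : M ⟶ N} (h : Approx b ν) [Z.IsGE b] :
    Function.Bijective (fun e : N ⟶ Z => ν ≫ e) := by
  obtain ⟨C, p, q, hT, hC⟩ := h
  haveI := hC
  constructor
  · intro e e' he
    obtain ⟨c, hc⟩ := Triangle.yoneda_exact₂ _ hT (e - e') (by
      change ν ≫ (e - e') = 0
      rw [Preadditive.comp_sub]; exact sub_eq_zero.2 he)
    have : c = 0 := DerivedCategory.TStructure.t.zero_of_isLE_of_isGE c (b - 2) b (by omega) hC inferInstance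
    rw [this, comp_zero] at hc
    exact sub_eq_zero.1 hc
  · intro x
    have hT' := inv_rot_of_distTriang _ hT
    haveI : (C⟦(-1 : ℤ)⟧).IsLE (b - 1) :=
      DerivedCategory.TStructure.t.isLE_shift C (b - 2) (-1) (b - 1) (by omega)
    have hz : (Triangle.mk ν p q).invRotate.mor₁ ≫ x = 0 := by
      refine DerivedCategory.TStructure.t.zero_of_isLE_of_isGE _ (b - 1) b (by omega) ?_ inferInstance
      assumption
    obtain ⟨e, he⟩ := Triangle.yoneda_exact₂ _ hT' x hz
    exact ⟨e, he.symm⟩

/-- The comparison with the termwise pullback is an isomorphism in the top degree. -/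
theorem approx_κ (g : X ⟶ Y) [DCoh.HasLpull g] (W : CochainComplex Y.Modules ℤ) (b : ℤ) [W.IsStrictlyLE b] :
    Approx b ((κ g).app W) := by
  obtain ⟨P, α, hP, hPf, hα⟩ := exists_flat_resolution W b
  haveI := hP
  haveI := hα
  haveI := isIso_Q_map α hα
  haveI := isIso_κ g P (kflat_of_boundedAbove P b (fun q hq => P.isZero_of_isStrictlyLE b q hq) hPf)
  let pullC := (Scheme.Modules.pullback g).mapHomologicalComplex (ComplexShape.up ℤ)
  let α' := pullC.map α
  let Z := CochainComplex.mappingCone α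
  have hZ : Z.Acyclic := (AcyclicLES.quasiIso_iff_acyclic_mappingCone α).1 hα
  have hZb : ∀ i, b < i → IsZero (Z.X i) := fun i hi =>
    ((CochainComplex.mappingCone.triangleRotateShortComplexSplitting α i).shortExact.exact).isZero_of_both_zeros
      ((W.isZero_of_isStrictlyLE b i hi).eq_of_src _ _)
      ((P.isZero_of_isStrictlyLE b (i + 1) (by omega)).eq_of_tgt _ _)
  haveI : PreservesFiniteColimits (Scheme.Modules.pullback g) :=
    @PreservesColimitsOfSize.preservesFiniteColimits.{u, u} _ _ _ _ _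
      (Scheme.Modules.pullbackPushforwardAdjunction g).leftAdjoint_preservesColimits
  have hC : (DerivedCategory.Q.obj (CochainComplex.mappingCone α')).IsLE (b - 2) := by
    rw [DerivedCategory.isLE_Q_obj_iff, CochainComplex.isLE_iff]
    intro i hi
    refine HomologicalComplex.ExactAt.of_iso ?_ (CochainComplex.mappingCone.mapHomologicalComplexIso α
      (Scheme.Modules.pullback g))
    rw [HomologicalComplex.exactAt_iff' _ (i - 1) i (i + 1) (by simp) (by simp)]
    have h0 := (Z.exactAt_iff' (i - 1) i (i + 1) (by simp) (by simp)).1 (hZ i)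
    by_cases h : b < i
    · exact ShortComplex.exact_of_isZero_X₂ _ ((Scheme.Modules.pullback g).map_isZero (hZb i h))
    have hg : Epi (Z.sc' (i - 1) i (i + 1)).g := by
      refine (HomologicalComplex.exactAt_iff' Z i (i + 1) (i + 1 + 1) (by simp) (by simp)).1 (hZ (i + 1))
        |>.epi_f ?_
      exact (hZb (i + 1 + 1) (by omega)).eq_of_tgt _ _
    haveI := hg
    exact h0.map_of_epi_of_preservesCokernel (Scheme.Modules.pullback g) inferInstance inferInstance
  have hT : Triangle.mk (DerivedCategory.Q.map α') _ _ ∈ distTriang (DCoh.D X) :=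
    DerivedCategory.mappingCone_triangle_distinguished α'
  have hα' : Approx b (DerivedCategory.Q.map α') := ⟨_, _, _, hT, hC⟩
  refine hα'.arrow ((DCoh.Lpull g).mapIso (asIso (DerivedCategory.Q.map α)).symm ≪≫ asIso ((κ g).app P))
    (Iso.refl _) ?_
  have hn := (κ g).naturality α
  simp only [Iso.refl_hom, Category.comp_id, Iso.trans_hom, Functor.mapIso_hom, Iso.symm_hom, asIso_inv,
    asIso_hom, Category.assoc]
  dsimp at hn
  erw [← hn]
  rw [← Category.assoc, ← Functor.map_comp, IsIso.inv_hom_id]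
  simp

end Groth.Agent.H16Derived.RelTensor
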