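import Groth.Agent.H16Derived.RelTensor.Point
import Groth.Agent.H16Derived.BaseChange.AffineCase
import Groth.Agent.H16Derived.BaseChange.Main

/-!
# Dévissage for base change with coefficients flat over the base
-/

set_option autoImplicit false
set_option linter.style.haveILetI false
set_option backward.isDefEq.respectTransparency false

universe u

open CategoryTheory CategoryTheory.Limits AlgebraicGeometry CategoryTheory.Pretriangulated TensorProduct

attribute [local instance] HasDerivedCategory.standard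
attribute [local instance] Algebra.TensorProduct.rightAlgebra

noncomputable section

namespace Groth.Agent.H16Derived.RelTensor

open Groth.Agent.H16Derived.KFlat Groth.Agent.H16Derived.KFlat.Stalk Groth.Agent.H16Derived.BaseChange

theorem isQCohD_Tn {B : Type u} [CommRing B] (n : ℤ) (N : ModuleCat.{u} B) : DCoh.IsQCohD ((Tn B n).obj N) :=
  isQCohD_shift (QCohD.AffineUnit.isQCohD_Q _ fun i => QCohD.isQCoh_tilde_X (R := CommRingCat.of B) _ i) n

section Induct

variable {B : Type u} [CommRing B] {D : Type*} [Category D] [HasShift D ℤ] [HasZeroObject D] [Preadditive D]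
  [∀ n : ℤ, (shiftFunctor D n).Additive] [Pretriangulated D]

/-- A transformation of triangulated functors commuting with sums is invertible on `D_QCoh` of an affine
scheme once it is invertible at the shifts of the structure sheaf. -/
theorem isIso_of_free {F₁ F₂ : DCoh.D (Spec (CommRingCat.of B)) ⥤ D} [F₁.CommShift ℤ] [F₂.CommShift ℤ]
    [F₁.IsTriangulated] [F₂.IsTriangulated] (τ : F₁ ⟶ F₂)
    (hc₁ : ∀ {ι : Type u} (K : ι → DCoh.D (Spec (CommRingCat.of B))), (∀ i, DCoh.IsQCohD (K i)) →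
      PreservesColimit (Discrete.functor K) F₁)
    (hc₂ : ∀ {ι : Type u} (K : ι → DCoh.D (Spec (CommRingCat.of B))), (∀ i, DCoh.IsQCohD (K i)) →
      PreservesColimit (Discrete.functor K) F₂)
    (h₀ : ∀ n : ℤ, IsIso (τ.app ((Tn B n).obj (ModuleCat.of B B))))
    (E : DCoh.D (Spec (CommRingCat.of B))) (hE : DCoh.IsQCohD E) : IsIso (τ.app E) := by
  let TB := DCoh.tildeD (CommRingCat.of B)
  suffices key : ∀ (M : Dual.D B) (n : ℤ), IsIso (τ.app ((TB.obj M)⟦n⟧)) by
    obtain ⟨M, ⟨e⟩⟩ := QCohD.exists_tildeD_iso (R := CommRingCat.of B) hE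
    haveI := key M 0
    exact (NatTrans.isIso_app_iff_of_iso τ ((shiftFunctorZero (DCoh.D _) ℤ).app _ ≪≫ e)).1 this
  refine H25DTen.localizing_induction (fun M => ∀ n : ℤ, IsIso (τ.app ((TB.obj M)⟦n⟧))) ?_ ?_ ?_ ?_
  · intro K L i r hir hL n
    haveI := hL n
    let i' := (TB.map i)⟦n⟧'
    let r' := (TB.map r)⟦n⟧'
    have h : i' ≫ r' = 𝟙 _ := by
      rw [← Functor.map_comp, ← Functor.map_comp, hir, CategoryTheory.Functor.map_id,
        CategoryTheory.Functor.map_id]
    refine ⟨F₂.map i' ≫ inv (τ.app _) ≫ F₁.map r', ?_, ?_⟩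
    · rw [← Category.assoc, ← τ.naturality, Category.assoc, IsIso.hom_inv_id_assoc, ← F₁.map_comp, h,
        F₁.map_id]
    · rw [Category.assoc, Category.assoc, τ.naturality r', IsIso.inv_hom_id_assoc, ← F₂.map_comp, h,
        F₂.map_id]
  · exact fun T hT h₁ h₃ n => isIso_shift_ext τ (TB.mapTriangle.obj T) (TB.map_distinguished _ hT) h₁ h₃ n
  · intro ι K hK n
    haveI : (moduleSpecΓFunctor (R := CommRingCat.of B)).Additive :=
      (tilde.adjunction (R := CommRingCat.of B)).right_adjoint_additive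
    haveI : ((tf B).mapHomologicalComplex (ComplexShape.up ℤ)).IsLeftAdjoint :=
      (mapHomologicalComplexAdj (tilde.adjunction (R := CommRingCat.of B)) (ComplexShape.up ℤ)).isLeftAdjoint
    let C := fun i => ((tf B).mapHomologicalComplex (ComplexShape.up ℤ)).obj (K i)
    haveI := QCoprod.preservesColimit_Q C
    let c := isColimitCofanMkObjOfIsColimit (shiftFunctor (DCoh.D (Spec (CommRingCat.of B))) n) _ _
      (isColimitCofanMkObjOfIsColimit DerivedCategory.Q _ _
        (isColimitCofanMkObjOfIsColimit ((tf B).mapHomologicalComplex (ComplexShape.up ℤ)) _ _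
          (coproductIsCoproduct K)))
    let e : ∀ L : DRing.Cx B, (TB.obj (DerivedCategory.Q.obj L))⟦n⟧ ≅
        (DerivedCategory.Q.obj (((tf B).mapHomologicalComplex (ComplexShape.up ℤ)).obj L))⟦n⟧ := fun L =>
      (shiftFunctor (DCoh.D (Spec (CommRingCat.of B))) n).mapIso ((tf B).mapDerivedCategoryFactors.app L)
    let K' := fun i => (DerivedCategory.Q.obj (C i))⟦n⟧
    have hq : ∀ i, DCoh.IsQCohD (K' i) := fun i =>
      QCohD.isQCohD_iso (e (K i)) fun m => QCohD.isQCoh_iso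
        (((DerivedCategory.homologyFunctor _ 0).shiftIso n m (n + m) rfl).app _).symm
        (QCohD.isQCohD_tildeD (CommRingCat.of B) (DerivedCategory.Q.obj (K i)) (n + m))
    haveI := hc₁ K' hq
    haveI := hc₂ K' hq
    haveI := isIso_app_of_cofan τ c fun i => (NatTrans.isIso_app_iff_of_iso τ (e (K i))).1 (hK i n)
    exact (NatTrans.isIso_app_iff_of_iso τ (e (∐ K))).2 this
  · intro k n
    let eS : (TB.obj (H25DTen.S B k))⟦n⟧ ≅ (Tn B (k + n)).obj (ModuleCat.of B B) :=
      (shiftFunctor (DCoh.D (Spec (CommRingCat.of B))) n).mapIso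
        ((tf B).mapDerivedCategoryFactors.app _ ≪≫
          (Functor.commShiftIso ((tf B).mapHomologicalComplex (ComplexShape.up ℤ) ⋙ DerivedCategory.Q) k).app _) ≪≫
      ((shiftFunctorAdd (DCoh.D (Spec (CommRingCat.of B))) k n).app _).symm
    exact (NatTrans.isIso_app_iff_of_iso τ eS).2 (h₀ _)

end Induct

theorem preservesColimit_comp {C D E : Type*} [Category C] [Category D] [Category E] {ι : Type u} (K : ι → C)
    (F : C ⥤ D) (G : D ⥤ E) [PreservesColimit (Discrete.functor K) F]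
    [PreservesColimit (Discrete.functor fun i => F.obj (K i)) G] : PreservesColimit (Discrete.functor K) (F ⋙ G) := by
  haveI : PreservesColimit (Discrete.functor (F.obj ∘ K)) G := ‹PreservesColimit (Discrete.functor fun i => F.obj (K i)) G›
  haveI : PreservesColimit (Discrete.functor K ⋙ F) G :=
    preservesColimit_of_iso_diagram _ (Discrete.compNatIsoDiscrete K F).symm
  exact @Limits.comp_preservesColimit _ _ _ _ _ _ _ _ _ _ _ inferInstance ‹_›

section Core

variable {A A' : Type u} [CommRing A] [CommRing A'] [Algebra A A']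

/-- `Spec A' ⟶ Spec A`. -/
abbrev gS (A A' : Type u) [CommRing A] [CommRing A'] [Algebra A A'] :
    Spec (CommRingCat.of A') ⟶ Spec (CommRingCat.of A) := Spec.map (CommRingCat.ofHom (algebraMap A A'))

variable {W W' : Scheme.{u}} (f : W ⟶ Spec (CommRingCat.of A)) (f' : W' ⟶ Spec (CommRingCat.of A')) (g' : W' ⟶ W)
  [DCoh.HasLpull g'] {Φ₁ : DCoh.D W ⥤ DCoh.D W} {Φ₂ : DCoh.D W ⥤ DCoh.D W'} (ν : Φ₁ ⋙ DCoh.Lpull g' ⟶ Φ₂)

/-- What is needed at the direct image of the structure sheaf of an affine open. -/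
def Local : Prop :=
  ∀ (B : Type u) [CommRing B] (k : Spec (CommRingCat.of B) ⟶ W) [IsOpenImmersion k] [DCoh.HasLpull k]
    [DCoh.HasRpush k] (n : ℤ) (ψ : A →+* B), Spec.map (CommRingCat.ofHom ψ) = k ≫ f →
    IsIso ((lpullRpushAdj k).unit.app (Φ₁.obj ((DCoh.Rpush k).obj ((Tn B n).obj (ModuleCat.of B B))))) ∧
    (∃ N : ModuleCat.{u} B, Module.Flat A ((ModuleCat.restrictScalars.{u} ψ).obj N) ∧
      Nonempty ((DCoh.Lpull k).obj (Φ₁.obj ((DCoh.Rpush k).obj ((Tn B n).obj (ModuleCat.of B B)))) ≅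
        (Tn B n).obj N)) ∧
    ∀ (B' : Type u) [CommRing B'] (gU : Spec (CommRingCat.of B') ⟶ Spec (CommRingCat.of B))
      (k' : Spec (CommRingCat.of B') ⟶ W') [IsOpenImmersion k'] [DCoh.HasLpull k'] [DCoh.HasRpush k'],
      IsPullback gU k' k g' →
      IsIso ((lpullRpushAdj k').unit.app (Φ₂.obj ((DCoh.Rpush k).obj ((Tn B n).obj (ModuleCat.of B B))))) ∧
      Approx (-n) ((DCoh.Lpull k').map (ν.app ((DCoh.Rpush k).obj ((Tn B n).obj (ModuleCat.of B B))))) ∧
      ∃ N' : ModuleCat.{u} B', Nonempty ((DCoh.Lpull k').obj (Φ₂.obj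
        ((DCoh.Rpush k).obj ((Tn B n).obj (ModuleCat.of B B)))) ≅ (Tn B' n).obj N')

variable [DCoh.HasLpull f] [DCoh.HasRpush f] [DCoh.HasLpull f'] [DCoh.HasRpush f'] [DCoh.HasLpull (gS A A')]

/-- The transformation to be inverted. -/
def τc (χ : DCoh.Lpull (gS A A') ⋙ DCoh.Lpull f' ≅ DCoh.Lpull f ⋙ DCoh.Lpull g') :
    Φ₁ ⋙ DCoh.Rpush f ⋙ DCoh.Lpull (gS A A') ⟶ Φ₂ ⋙ DCoh.Rpush f' :=
  Functor.whiskerLeft Φ₁ (bc (lpullRpushAdj f) (lpullRpushAdj f') χ.hom) ≫
    (Functor.associator _ _ _).inv ≫ Functor.whiskerRight ν (DCoh.Rpush f')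

theorem τc_app (χ : DCoh.Lpull (gS A A') ⋙ DCoh.Lpull f' ≅ DCoh.Lpull f ⋙ DCoh.Lpull g') (E : DCoh.D W) :
    (τc f f' g' ν χ).app E = bcApp (lpullRpushAdj f) (lpullRpushAdj f') χ.hom (Φ₁.obj E) ≫
      (DCoh.Rpush f').map (ν.app E) := by
  simp [τc, bc]

variable {f f' g' ν}

/-- The value at the direct image of the structure sheaf of an affine open. -/
theorem isIso_τc_point (h : IsPullback g' f' f (gS A A')) (hloc : Local f g' ν)
    (χ : DCoh.Lpull (gS A A') ⋙ DCoh.Lpull f' ≅ DCoh.Lpull f ⋙ DCoh.Lpull g')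
    (hΦ : ∀ {E : DCoh.D W}, DCoh.IsQCohD E → DCoh.IsQCohD (Φ₁.obj E))
    (B : Type u) [CommRing B] (k : Spec (CommRingCat.of B) ⟶ W) [IsOpenImmersion k] [DCoh.HasRpush k]
    [QuasiCompact k] [QuasiSeparated k] (n : ℤ) :
    IsIso ((τc f f' g' ν χ).app ((DCoh.Rpush k).obj ((Tn B n).obj (ModuleCat.of B B)))) := by
  let ψ : A →+* B := (Spec.preimage (k ≫ f)).hom
  have hψ : Spec.map (CommRingCat.ofHom ψ) = k ≫ f := Spec.map_preimage _
  letI := ψ.toAlgebra
  let B' := A' ⊗[A] B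
  let gU : Spec (CommRingCat.of B') ⟶ Spec (CommRingCat.of B) := Spec.map (CommRingCat.ofHom (algebraMap B B'))
  let f₀ : Spec (CommRingCat.of B') ⟶ Spec (CommRingCat.of A') := Spec.map (CommRingCat.ofHom (algebraMap A' B'))
  have h₀ : IsPullback gU f₀ (k ≫ f) (gS A A') := by
    rw [← hψ]
    exact (isPullback_SpecMap_of_isPushout _ _ _ _ (CommRingCat.isPushout_of_isPushout A A' B B')).flip
  let k' := h.lift (gU ≫ k) f₀ (by rw [Category.assoc]; exact h₀.w)
  have hk'g : k' ≫ g' = gU ≫ k := h.lift_fst _ _ _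
  have hk'f : k' ≫ f' = f₀ := h.lift_snd _ _ _
  have hU : IsPullback gU k' k g' := IsPullback.of_bot (by rw [hk'f]; exact h₀) hk'g.symm h
  haveI : IsOpenImmersion k' := MorphismProperty.of_isPullback hU inferInstance
  haveI := hasLpull k
  haveI := hasLpull k'
  haveI := hasLpull gU
  haveI := QCohD.hasRpush k'
  let E₀ := (DCoh.Rpush k).obj ((Tn B n).obj (ModuleCat.of B B))
  obtain ⟨hu, ⟨N, hN, ⟨eM⟩⟩, hh⟩ := hloc B k n ψ hψ
  obtain ⟨hu', hν, N', ⟨eN⟩⟩ := hh B' gU k' hU
  let a := lpullRpushAdj k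
  let a' := lpullRpushAdj k'
  haveI := hu
  haveI := hu'
  haveI := isIso_counit_of_openImmersion k' a'
  let u := a.unit.app (Φ₁.obj E₀)
  let u' := a'.unit.app (Φ₂.obj E₀)
  haveI : IsIso u := hu
  haveI : IsIso u' := hu'
  obtain ⟨θ⟩ := nonempty_sq hU.w (isLp_self k) (isLp_self k') (isLp_self g') (isLp_self gU)
  let MU := (DCoh.Lpull k).obj (Φ₁.obj E₀)
  let b := bcApp a a' θ.hom MU
  haveI : IsIso b := by
    have hTI : TI k g' := ti_of_flat k g'
    exact bc_separated hU.flip.flip hTI _ _ _ _ _ _ a a' (isLp_self k) (isLp_self k') (isLp_self g') (isLp_self gU)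
      θ MU (QCohD.isQCohD_lpull k (hΦ (QCohD.isQCohD_rpush k (isQCohD_Tn n _))))
  let w : (DCoh.Rpush k').obj ((DCoh.Lpull gU).obj MU) ⟶ (DCoh.Rpush k').obj ((DCoh.Lpull k').obj (Φ₂.obj E₀)) :=
    inv b ≫ (DCoh.Lpull g').map (inv u) ≫ ν.app E₀ ≫ u'
  let νU : (DCoh.Lpull gU).obj MU ⟶ (DCoh.Lpull k').obj (Φ₂.obj E₀) :=
    inv (a'.counit.app _) ≫ (DCoh.Lpull k').map w ≫ a'.counit.app _
  have hw : (DCoh.Rpush k').map νU = w := by
    have hn := a'.unit_naturality w
    haveI : IsIso (a'.unit.app ((DCoh.Rpush k').obj ((DCoh.Lpull gU).obj MU))) := by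
      haveI : IsIso (a'.unit.app ((DCoh.Rpush k').obj ((DCoh.Lpull gU).obj MU)) ≫
          (DCoh.Rpush k').map (a'.counit.app ((DCoh.Lpull gU).obj MU))) := by
        rw [a'.right_triangle_components]; exact inferInstanceAs (IsIso (𝟙 _))
      exact IsIso.of_isIso_comp_right _ ((DCoh.Rpush k').map (a'.counit.app ((DCoh.Lpull gU).obj MU)))
    have h1 : (DCoh.Rpush k').map (inv (a'.counit.app ((DCoh.Lpull gU).obj MU))) =
        a'.unit.app ((DCoh.Rpush k').obj ((DCoh.Lpull gU).obj MU)) := by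
      rw [Functor.map_inv]
      exact IsIso.inv_eq_of_inv_hom_id (a'.right_triangle_components _)
    rw [Functor.map_comp, Functor.map_comp, h1, ← Category.assoc]
    erw [hn]
    rw [Category.assoc, a'.right_triangle_components]
    exact Category.comp_id _
  have hνU : Approx (-n) νU := by
    haveI : IsIso ((DCoh.Lpull k').map u') := inferInstance
    refine hν.arrow ((asIso (a'.counit.app ((DCoh.Lpull gU).obj MU))).symm ≪≫
      (DCoh.Lpull k').mapIso ((asIso b).symm ≪≫ (DCoh.Lpull g').mapIso (asIso u).symm))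
      ((asIso (a'.counit.app ((DCoh.Lpull k').obj (Φ₂.obj E₀)))).symm ≪≫ ((DCoh.Lpull k').mapIso (asIso u')).symm) ?_
    simp [νU, w]
    rfl
  let Φ : DCoh.Lpull (gS A A') ⋙ (DCoh.Lpull f' ⋙ DCoh.Lpull k') ≅
      (DCoh.Lpull f ⋙ DCoh.Lpull k) ⋙ DCoh.Lpull gU :=
    (Functor.associator _ _ _).symm ≪≫ Functor.isoWhiskerRight χ _ ≪≫ Functor.associator _ _ _ ≪≫
      Functor.isoWhiskerLeft _ θ ≪≫ (Functor.associator _ _ _).symm
  have hΦ' : Φ.hom = pasteF χ.hom θ.hom := by
    ext c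
    simp [Φ, pasteF]
  let adj := (lpullRpushAdj f).comp a
  let adj' := (lpullRpushAdj f').comp a'
  have key := isIso_point A A' B B' adj adj' (((isLp_self f).comp (isLp_self k)).congr hψ.symm)
    (((isLp_self f').comp (isLp_self k')).congr hk'f) Φ n N hN N'
    ((DCoh.Lpull gU).map eM.inv ≫ νU ≫ eN.hom) ((hνU.comp_iso eN).iso_comp ((DCoh.Lpull gU).mapIso eM.symm))
  have hn := bcApp_naturality adj adj' Φ.hom eM.hom
  rw [show bcApp adj adj' Φ.hom ((Tn B n).obj N) ≫ (DCoh.Rpush k' ⋙ DCoh.Rpush f').map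
      ((DCoh.Lpull gU).map eM.inv ≫ νU ≫ eN.hom) =
      inv ((DCoh.Lpull (gS A A')).map ((DCoh.Rpush k ⋙ DCoh.Rpush f).map eM.hom)) ≫
        (bcApp adj adj' Φ.hom MU ≫ (DCoh.Rpush f').map w) ≫ (DCoh.Rpush f').map ((DCoh.Rpush k').map eN.hom) by
    rw [IsIso.eq_inv_comp, ← Category.assoc, hn, ← hw, Category.assoc, ← Functor.map_comp, ← Functor.map_comp_assoc,
      eM.hom_inv_id]
    simp
    rfl] at key
  have hb : bcApp adj adj' Φ.hom MU = bcApp (lpullRpushAdj f) (lpullRpushAdj f') χ.hom ((DCoh.Rpush k).obj MU) ≫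
      (DCoh.Rpush f').map b := by
    rw [hΦ']
    exact bcApp_pasteF (lpullRpushAdj f) (lpullRpushAdj f') χ.hom a a' θ.hom MU
  have hb₁ := bcApp_naturality (lpullRpushAdj f) (lpullRpushAdj f') χ.hom u
  have e : bcApp adj adj' Φ.hom MU ≫ (DCoh.Rpush f').map w =
      inv ((DCoh.Lpull (gS A A')).map ((DCoh.Rpush f).map u)) ≫ (τc f f' g' ν χ).app E₀ ≫
        (DCoh.Rpush f').map u' := by
    rw [τc_app, IsIso.eq_inv_comp, hb]
    simp only [w, Functor.map_comp, Category.assoc, Functor.map_inv]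
    erw [IsIso.hom_inv_id_assoc, reassoc_of% hb₁, IsIso.hom_inv_id_assoc]
  rw [e] at key
  simp only [Category.assoc] at key
  haveI := (isIso_comp_left_iff _ _).1 ((isIso_comp_left_iff _ _).1 key)
  exact IsIso.of_isIso_comp_right _ ((DCoh.Rpush f').map u' ≫ (DCoh.Rpush f').map ((DCoh.Rpush k').map eN.hom))

/-- **Dévissage.** -/
theorem isIso_τc (h : IsPullback g' f' f (gS A A')) [CompactSpace W] [QuasiSeparatedSpace W]
    (hloc : Local f g' ν) [Φ₁.CommShift ℤ] [Φ₁.IsTriangulated] [Φ₂.CommShift ℤ] [Φ₂.IsTriangulated]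
    (hq₁ : ∀ {E : DCoh.D W}, DCoh.IsQCohD E → DCoh.IsQCohD (Φ₁.obj E))
    (hq₂ : ∀ {E : DCoh.D W}, DCoh.IsQCohD E → DCoh.IsQCohD (Φ₂.obj E))
    (hc₁ : ∀ {ι : Type u} (K : ι → DCoh.D W), (∀ i, DCoh.IsQCohD (K i)) → PreservesColimit (Discrete.functor K) Φ₁)
    (hc₂ : ∀ {ι : Type u} (K : ι → DCoh.D W), (∀ i, DCoh.IsQCohD (K i)) → PreservesColimit (Discrete.functor K) Φ₂)
    (χ : DCoh.Lpull (gS A A') ⋙ DCoh.Lpull f' ≅ DCoh.Lpull f ⋙ DCoh.Lpull g')
    (E : DCoh.D W) (hE : DCoh.IsQCohD E) : IsIso ((τc f f' g' ν χ).app E) := by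
  haveI : QuasiCompact f := quasiCompact_of_compactSpace f
  haveI : QuasiSeparated f := QuasiSeparated.of_quasiSeparatedSpace f
  haveI : QuasiCompact f' := MorphismProperty.of_isPullback h ‹QuasiCompact f›
  haveI : QuasiSeparated f' := MorphismProperty.of_isPullback h ‹QuasiSeparated f›
  haveI := QCohD.hasRpush (gS A A')
  haveI : (DCoh.Lpull (gS A A')).IsLeftAdjoint := (lpullRpushAdj (gS A A')).isLeftAdjoint
  letI := rpushCommShift f
  haveI := rpush_isTriangulated f
  letI := rpushCommShift f'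
  haveI := rpush_isTriangulated f'
  letI := lpullCommShift (gS A A')
  haveI := lpull_isTriangulated (gS A A')
  refine isIso_app_of_affine (τc f f' g' ν χ) (fun B k _ => ?_) E hE
  intro M hM
  haveI := QCohD.hasRpush k
  haveI : QuasiCompact k := quasiCompact_of_compactSpace k
  letI := rpushCommShift k
  haveI := rpush_isTriangulated k
  refine isIso_of_free (B := B) (Functor.whiskerLeft (DCoh.Rpush k) (τc f f' g' ν χ)) (fun {ι} K hK => ?_)
    (fun {ι} K hK => ?_) (fun n => isIso_τc_point h hloc χ hq₁ B k n) M hM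
  · haveI := preservesCoproduct_rpush k K hK
    haveI := hc₁ (fun i => (DCoh.Rpush k).obj (K i)) fun i => QCohD.isQCohD_rpush k (hK i)
    haveI := preservesCoproduct_rpush f (fun i => Φ₁.obj ((DCoh.Rpush k).obj (K i)))
      fun i => hq₁ (QCohD.isQCohD_rpush k (hK i))
    haveI : PreservesColimit (Discrete.functor fun i => (DCoh.Rpush k).obj (K i))
        (Φ₁ ⋙ DCoh.Rpush f ⋙ DCoh.Lpull (gS A A')) := by
      haveI : PreservesColimit (Discrete.functor fun i => Φ₁.obj ((DCoh.Rpush k).obj (K i)))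
          (DCoh.Rpush f ⋙ DCoh.Lpull (gS A A')) := preservesColimit_comp _ _ _
      exact preservesColimit_comp _ _ _
    exact preservesColimit_comp _ _ _
  · haveI := preservesCoproduct_rpush k K hK
    haveI := hc₂ (fun i => (DCoh.Rpush k).obj (K i)) fun i => QCohD.isQCohD_rpush k (hK i)
    haveI := preservesCoproduct_rpush f' (fun i => Φ₂.obj ((DCoh.Rpush k).obj (K i)))
      fun i => hq₂ (QCohD.isQCohD_rpush k (hK i))
    haveI : PreservesColimit (Discrete.functor fun i => (DCoh.Rpush k).obj (K i))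
        (Φ₂ ⋙ DCoh.Rpush f') := preservesColimit_comp _ _ _
    exact preservesColimit_comp _ _ _

end Core

end Groth.Agent.H16Derived.RelTensor
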