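import Groth.Agent.H16Derived.RelTensor.LocFree
import Groth.Agent.H8Props.RelPCBaseChange

/-!
# Base change of `Rf_* F`
-/

set_option autoImplicit false
set_option linter.style.haveILetI false
set_option backward.isDefEq.respectTransparency false

universe u

open CategoryTheory CategoryTheory.Limits AlgebraicGeometry

attribute [local instance] HasDerivedCategory.standard

noncomputable section

namespace Groth.Agent.H16Derived.RelTensor

open Groth.Agent.H16Derived.KFlat Groth.Agent.H16Derived.KFlat.Stalk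

variable {X X' S S' : Scheme.{u}}

/-- A module as tensor product with the unit. -/
theorem nonempty_ltensorMod_o (G : X.Modules) [DCoh.HasLTensorMod G] :
    Nonempty ((DCoh.LTensorMod G).obj (Dual.o X 0) ≅ DCoh.inD X G) := by
  obtain ⟨e⟩ := ProperSupp.nonempty_ltensorMod_iso (Dual.o X 0) G
  obtain ⟨w⟩ := Dual.nonempty_TObj_o (DCoh.inD X G) 0
  exact ⟨e ≪≫ Dual.σ _ _ ≪≫ w ≪≫ (shiftFunctorZero (DCoh.D X) ℤ).app _⟩

/-- Base change for a module flat over the base. -/
theorem nonempty_baseChange_inD {f : X ⟶ S} {g : S' ⟶ S} {g' : X' ⟶ X} {f' : X' ⟶ S'}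
    (h : IsPullback g' f' f g) [QuasiCompact f] [QuasiSeparated f] [DCoh.HasRpush f] [DCoh.HasRpush f']
    [DCoh.HasLpull g] {G : X.Modules} (hG : Coh.IsQCoh G) (hflat : FlatMod.IsFlatOver f G) :
    Nonempty ((DCoh.Lpull g).obj ((DCoh.Rpush f).obj (DCoh.inD X G)) ≅
      (DCoh.Rpush f').obj (DCoh.inD X' ((Scheme.Modules.pullback g').obj G))) := by
  haveI := hasLTensorMod G
  haveI := hasLTensorMod (pullG g' G)
  haveI := hasLpull g'
  obtain ⟨e⟩ := nonempty_baseChange_iso h hG hflat (Dual.o X 0) (Dual.isQCohD_of_isPerfect (Dual.isPerfect_o 0))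
  obtain ⟨a⟩ := nonempty_ltensorMod_o G
  obtain ⟨b⟩ := nonempty_ltensorMod_o (pullG g' G)
  obtain ⟨w⟩ := H8Props.RelPC.nonempty_lpull_unit g'
  let u : ∀ Z : Scheme.{u}, DCoh.toD Z (DerSch.unitCx Z) ≅ Dual.o Z 0 := fun Z =>
    DerivedCategory.Q.mapIso ((shiftFunctorZero (CochainComplex Z.Modules ℤ) ℤ).app (Dual.S₀ Z)).symm
  exact ⟨(DCoh.Lpull g).mapIso ((DCoh.Rpush f).mapIso a.symm) ≪≫ e ≪≫ (DCoh.Rpush f').mapIso
    ((DCoh.LTensorMod (pullG g' G)).mapIso ((DCoh.Lpull g').mapIso (u X).symm ≪≫ w ≪≫ u X') ≪≫ b)⟩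

end Groth.Agent.H16Derived.RelTensor
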