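import Groth.Agent.H16Derived.RelTensor.Approx
import Groth.Agent.H16Derived.RelTensor.Algebra
import Groth.Agent.H16Derived.BaseChange.AffinePoint
import Groth.Agent.H1CAlg.Tor
import Groth.Agent.H3CAlg.TorComm

/-!
# Base change of a flat module in one degree between affine schemes
-/

set_option autoImplicit false
set_option linter.style.haveILetI false
set_option backward.isDefEq.respectTransparency false

universe u

open CategoryTheory CategoryTheory.Limits AlgebraicGeometry

attribute [local instance] HasDerivedCategory.standard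

noncomputable section

namespace Groth.Agent.H16Derived.RelTensor

open Groth.Agent.H16Derived.KFlat Groth.Agent.H16Derived.KFlat.Stalk Groth.Agent.H16Derived.BaseChange

variable {A B : Type u} [CommRing A] [CommRing B]

theorem isGE_Tn (n : ℤ) (N : ModuleCat.{u} A) : ((Tn A n).obj N).IsGE (-n) := by
  haveI : ((tf A ⋙ DerivedCategory.singleFunctor _ 0).obj N).IsGE 0 :=
    inferInstanceAs (((DerivedCategory.singleFunctor _ 0).obj ((tf A).obj N)).IsGE 0)
  haveI : ((T₀ A).obj N).IsGE 0 := DerivedCategory.TStructure.t.isGE_of_iso ((T₀Iso A).app N).symm 0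
  exact DerivedCategory.TStructure.t.isGE_shift _ 0 n (-n) (by omega)

section Adjunct

variable (φ : A →+* B) (n : ℤ) [DCoh.HasLpull (Spec.map (CommRingCat.ofHom φ))]
  [DCoh.HasRpush (Spec.map (CommRingCat.ofHom φ))] {p : ModuleCat.{u} A} {q r : ModuleCat.{u} B}

/-- The module map adjoint to `Lg^* p[n] ⟶ q[n]`. -/
def adjMap (d : (DCoh.Lpull (Spec.map (CommRingCat.ofHom φ))).obj ((Tn A n).obj p) ⟶ (Tn B n).obj q) :
    p ⟶ (ModuleCat.restrictScalars.{u} φ).obj q :=
  (Tn A n).preimage ((lpullRpushAdj _).homEquiv _ _ d ≫ (Ψn φ n).hom.app q)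

theorem bijective_adjMap : Function.Bijective (adjMap φ n (p := p) (q := q)) := by
  refine ⟨fun d d' h => ?_, fun w => ⟨((lpullRpushAdj _).homEquiv _ _).symm
    ((Tn A n).map w ≫ (Ψn φ n).inv.app q), ?_⟩⟩
  · have h' := congrArg (Tn A n).map h
    simp only [adjMap, Functor.map_preimage] at h'
    exact ((lpullRpushAdj _).homEquiv _ _).injective ((cancel_mono ((Ψn φ n).hom.app q)).1 h')
  · apply (Tn A n).map_injective
    rw [adjMap, Functor.map_preimage, Equiv.apply_symm_apply, Category.assoc, Iso.inv_hom_id_app]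
    exact Category.comp_id _

theorem adjMap_comp (d : (DCoh.Lpull (Spec.map (CommRingCat.ofHom φ))).obj ((Tn A n).obj p) ⟶ (Tn B n).obj q)
    (h : q ⟶ r) :
    adjMap φ n (d ≫ (Tn B n).map h) = adjMap φ n d ≫ (ModuleCat.restrictScalars.{u} φ).map h := by
  apply (Tn A n).map_injective
  rw [adjMap, adjMap, Functor.map_comp, Functor.map_preimage, Functor.map_preimage,
    Adjunction.homEquiv_naturality_right, Category.assoc, Category.assoc]
  exact congrArg (_ ≫ ·) ((Ψn φ n).hom.naturality h)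

theorem univ_adjMap (d : (DCoh.Lpull (Spec.map (CommRingCat.ofHom φ))).obj ((Tn A n).obj p) ⟶ (Tn B n).obj q)
    (hd : ∀ r : ModuleCat.{u} B, Function.Bijective fun e : (Tn B n).obj q ⟶ (Tn B n).obj r => d ≫ e) :
    Univ φ (adjMap φ n d) := fun r => by
  have e : (fun h : q ⟶ r => adjMap φ n d ≫ (ModuleCat.restrictScalars.{u} φ).map h) =
      adjMap φ n ∘ (fun e : (Tn B n).obj q ⟶ (Tn B n).obj r => d ≫ e) ∘ (fun h : q ⟶ r => (Tn B n).map h) :=
    funext fun h => (adjMap_comp φ n d h).symm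
  rw [e]
  exact (bijective_adjMap φ n).comp ((hd r).comp ((Functor.FullyFaithful.ofFullyFaithful (Tn B n)).map_bijective q r))

theorem isIso_of_univ (hΘ : IsIso ((Θn φ n).app p))
    (d : (DCoh.Lpull (Spec.map (CommRingCat.ofHom φ))).obj ((Tn A n).obj p) ⟶ (Tn B n).obj q)
    (hd : Univ φ (adjMap φ n d)) : IsIso d := by
  haveI := hΘ
  let Θ' : (DCoh.Lpull (Spec.map (CommRingCat.ofHom φ))).obj ((Tn A n).obj p) ⟶
      (Tn B n).obj ((ModuleCat.extendScalars.{u, u, u} φ).obj p) := (Θn φ n).app p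
  haveI : IsIso Θ' := hΘ
  let c := (Tn B n).preimage (inv Θ' ≫ d)
  have hc : d = Θ' ≫ (Tn B n).map c := by
    rw [Functor.map_preimage, IsIso.hom_inv_id_assoc]
  have hv : Univ φ (adjMap φ n Θ') :=
    univ_adjMap φ n Θ' fun r => ((asIso Θ').homCongr (Iso.refl ((Tn B n).obj r))).symm.bijective |> fun h => by
      convert h using 1
      funext e
      simp [Iso.homCongr]
  rw [hc, adjMap_comp] at hd
  haveI := hv.isIso c hd
  rw [hc]
  infer_instance

end Adjunct

/-- Direct image of one module, for any pair of adjoints computing the derived pullback and direct image. -/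
theorem nonempty_push_model (φ : A →+* B) (n : ℤ) {F : DCoh.D (Spec (CommRingCat.of A)) ⥤ DCoh.D (Spec (CommRingCat.of B))}
    {R : DCoh.D (Spec (CommRingCat.of B)) ⥤ DCoh.D (Spec (CommRingCat.of A))} (adj : F ⊣ R)
    (hF : IsLp (Spec.map (CommRingCat.ofHom φ)) F) :
    Nonempty (Tn B n ⋙ R ≅ ModuleCat.restrictScalars.{u} φ ⋙ Tn A n) := by
  haveI := hasLpull (Spec.map (CommRingCat.ofHom φ))
  haveI := QCohD.hasRpush (Spec.map (CommRingCat.ofHom φ))
  obtain ⟨i⟩ := hF.unique (isLp_self (Spec.map (CommRingCat.ofHom φ)))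
  exact ⟨Functor.isoWhiskerLeft (Tn B n)
    ((adj.ofNatIsoLeft i.symm).rightAdjointUniq (lpullRpushAdj _)) ≪≫ Ψn φ n⟩

section Square

variable (A A' B B' : Type u) [CommRing A] [CommRing A'] [CommRing B] [CommRing B'] [Algebra A A']
  [Algebra A B] [Algebra A' B'] [Algebra B B'] [Algebra A B'] [IsScalarTower A A' B']
  [IsScalarTower A B B']

/-- The base change map, composed with an approximation of the derived pullback, is invertible. -/
theorem isIso_point [Algebra.IsPushout A A' B B']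
    [DCoh.HasLpull (Spec.map (CommRingCat.ofHom (algebraMap A A')))]
    [DCoh.HasLpull (Spec.map (CommRingCat.ofHom (algebraMap B B')))]
    {F : DCoh.D (Spec (CommRingCat.of A)) ⥤ DCoh.D (Spec (CommRingCat.of B))}
    {R : DCoh.D (Spec (CommRingCat.of B)) ⥤ DCoh.D (Spec (CommRingCat.of A))}
    {F' : DCoh.D (Spec (CommRingCat.of A')) ⥤ DCoh.D (Spec (CommRingCat.of B'))}
    {R' : DCoh.D (Spec (CommRingCat.of B')) ⥤ DCoh.D (Spec (CommRingCat.of A'))}
    (adj : F ⊣ R) (adj' : F' ⊣ R') (hF : IsLp (Spec.map (CommRingCat.ofHom (algebraMap A B))) F)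
    (hF' : IsLp (Spec.map (CommRingCat.ofHom (algebraMap A' B'))) F')
    (φ : DCoh.Lpull (Spec.map (CommRingCat.ofHom (algebraMap A A'))) ⋙ F' ≅
      F ⋙ DCoh.Lpull (Spec.map (CommRingCat.ofHom (algebraMap B B'))))
    (n : ℤ) (N : ModuleCat.{u} B)
    (hN : Module.Flat A ((ModuleCat.restrictScalars.{u} (algebraMap A B)).obj N)) (N' : ModuleCat.{u} B')
    (ν : (DCoh.Lpull (Spec.map (CommRingCat.ofHom (algebraMap B B')))).obj ((Tn B n).obj N) ⟶ (Tn B' n).obj N')
    (hν : Approx (-n) ν) :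
    IsIso (bcApp adj adj' φ.hom ((Tn B n).obj N) ≫ R'.map ν) := by
  let g := Spec.map (CommRingCat.ofHom (algebraMap A A'))
  let g' := Spec.map (CommRingCat.ofHom (algebraMap B B'))
  haveI := QCohD.hasRpush g
  haveI := QCohD.hasRpush g'
  let a := lpullRpushAdj g
  let a' := lpullRpushAdj g'
  let ρ := ModuleCat.restrictScalars.{u} (algebraMap A B)
  let ρ' := ModuleCat.restrictScalars.{u} (algebraMap A' B')
  let σ := ModuleCat.restrictScalars.{u} (algebraMap A A')
  let σ' := ModuleCat.restrictScalars.{u} (algebraMap B B')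
  obtain ⟨Ψ⟩ := nonempty_push_model (algebraMap A B) n adj hF
  obtain ⟨Ψ'⟩ := nonempty_push_model (algebraMap A' B') n adj' hF'
  let C := conjugateIsoEquiv (adj.comp a') (a.comp adj') φ
  let τ := bcApp adj adj' φ.hom ((Tn B n).obj N) ≫ R'.map ν
  let τ' : (DCoh.Lpull g).obj ((Tn A n).obj (ρ.obj N)) ⟶ (Tn A' n).obj (ρ'.obj N') :=
    (DCoh.Lpull g).map (Ψ.inv.app N) ≫ τ ≫ Ψ'.hom.app N'
  suffices IsIso τ' by
    rw [show bcApp adj adj' φ.hom ((Tn B n).obj N) ≫ R'.map ν =
      inv ((DCoh.Lpull g).map (Ψ.inv.app N)) ≫ τ' ≫ inv (Ψ'.hom.app N') by simp [τ', τ]]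
    infer_instance
  haveI hΘ : IsIso ((Θn (algebraMap A A') n).app (ρ.obj N)) := isIso_Θn _ n _ (isIso_Θ₀ _ fun p hp => by
    obtain ⟨k, rfl⟩ := Nat.exists_eq_succ_of_ne_zero hp.ne'
    haveI : Module.Flat A (ρ.obj N) := hN
    obtain ⟨e⟩ := H3CAlg.TorComm.nonempty_iso (k + 1) (ModuleCat.of A A') (ρ.obj N)
    exact ModuleCat.subsingleton_of_isZero ((H1CAlg.isZero_Tor_of_flat (ρ.obj N) (ModuleCat.of A A') k).of_iso e))
  let c : ∀ y : ModuleCat.{u} B', ρ.obj (σ'.obj y) ⟶ σ.obj (ρ'.obj y) := fun y =>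
    (Tn A n).preimage (Ψ.inv.app (σ'.obj y) ≫ R.map ((Ψn (algebraMap B B') n).inv.app y) ≫
      C.hom.app ((Tn B' n).obj y) ≫ (DCoh.Rpush g).map (Ψ'.hom.app y) ≫ (Ψn (algebraMap A A') n).hom.app (ρ'.obj y))
  have hw : Univ (algebraMap B B') (adjMap (algebraMap B B') n ν) :=
    univ_adjMap _ n ν fun r => haveI := isGE_Tn n r; hν.bijective
  refine isIso_of_univ _ n hΘ τ' ?_
  have key : adjMap (algebraMap A A') n τ' = ρ.map (adjMap (algebraMap B B') n ν) ≫ c N' := by
    apply (Tn A n).map_injective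
    rw [Functor.map_comp, Functor.map_preimage, adjMap, Functor.map_preimage]
    have h1 : a.homEquiv _ _ τ = R.map (a'.homEquiv _ _ ν) ≫ C.hom.app ((Tn B' n).obj N') := by
      rw [show a.homEquiv _ _ τ = a.homEquiv _ _ (bcApp adj adj' φ.hom ((Tn B n).obj N)) ≫
        (DCoh.Rpush g).map (R'.map ν) from a.homEquiv_naturality_right _ _,
        bcApp_eq_transpose adj adj' a a' φ, Category.assoc]
      erw [← C.hom.naturality ν]
      rw [← Category.assoc]
      refine congrArg (· ≫ _) ?_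
      rw [Functor.comp_map, ← R.map_comp, Adjunction.homEquiv_unit]
    have h2 : a'.homEquiv _ _ ν = (Tn B n).map (adjMap (algebraMap B B') n ν) ≫
        (Ψn (algebraMap B B') n).inv.app N' := by
      rw [adjMap, Functor.map_preimage, Category.assoc, Iso.hom_inv_id_app]
      exact (Category.comp_id _).symm
    have h3 := Ψ.inv.naturality (adjMap (algebraMap B B') n ν)
    simp only [Functor.comp_map] at h3
    rw [show a.homEquiv _ _ τ' = Ψ.inv.app N ≫ a.homEquiv _ _ τ ≫ (DCoh.Rpush g).map (Ψ'.hom.app N') by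
      rw [← a.homEquiv_naturality_right]; exact a.homEquiv_naturality_left _ _]
    erw [h1, h2, R.map_comp]
    simp only [Category.assoc]
    erw [reassoc_of% h3]
    rfl
  rw [key]
  refine univ_comp A' B' c (fun y y' h => (Tn A n).map_injective ?_) (fun y => ?_) _ hw
  · rw [Functor.map_comp, Functor.map_comp, Functor.map_preimage, Functor.map_preimage]
    have e1 := Ψ.inv.naturality (σ'.map h)
    have e2 := (Ψn (algebraMap B B') n).inv.naturality h
    have e3 := C.hom.naturality ((Tn B' n).map h)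
    have e4 := Ψ'.hom.naturality h
    have e5 := (Ψn (algebraMap A A') n).hom.naturality (ρ'.map h)
    simp only [Functor.comp_map] at e1 e2 e3 e4 e5
    simp only [Category.assoc]
    erw [reassoc_of% e1, ← R.map_comp_assoc, e2, R.map_comp_assoc, reassoc_of% e3,
      ← (DCoh.Rpush g).map_comp_assoc, e4, (DCoh.Rpush g).map_comp_assoc, e5]
    rfl
  · haveI : IsIso ((Tn A n).map (c y)) := by
      rw [Functor.map_preimage]
      infer_instance
    exact isIso_of_fully_faithful (Tn A n) (c y)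

end Square

end Groth.Agent.H16Derived.RelTensor
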